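import Cfsg.Agent.Lib.FieldFour
import Cfsg.Agent.Lib.ListFast
import Mathlib
import Cfsg.Agent.LieClassical.SUBasic
import Cfsg.Agent.LieClassical.FieldTransfer
import Cfsg.Agent.S0280
import Cfsg.Agent.FastGrp
import Cfsg.Agent.Prune
set_option linter.all false

section
prune_inst 0x7f00000000000000000000000000000000000000000000000000000000000000000000000000000000000000000000000000000000000000000000000000000000000000000000000000000000000000003fffffffffffffffffffffffffffbeffbdffffffff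

-- part: SylowU5/Code
section
set_option linter.all false
open scoped Cfsg.Agent.FastGrp

-- part: SylowU5/Raw
section
/-!
The Sylow 2-subgroup of `SU_5(2)` inside an explicit group of order `4 ^ 7`: triples `(λ, v, h)`
with `v` a column of length two and `h` a `2 × 2` matrix over `F4`, product
`(λ, v, h) (λ', v', h') = (λ + λ', v + u v', h + u h' u^* + v (u v')^*)`, `u = [1, λ; 0, 1]`.
-/

set_option autoImplicit false

namespace Cfsg.Agent.SylowU5.Model

open Cfsg.Agent.Lib.FieldFour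

/-- The involutory automorphism of `F4`. -/
def cj : F4 → F4
  | F4.o => F4.o
  | F4.i => F4.i
  | F4.w => F4.v
  | F4.v => F4.w

theorem cj_add (x y : F4) : cj (x + y) = cj x + cj y := by revert x y; decide
theorem cj_mul (x y : F4) : cj (x * y) = cj x * cj y := by revert x y; decide
theorem cj_cj (x : F4) : cj (cj x) = x := by revert x; decide
theorem cj_zero : cj 0 = 0 := rfl
theorem cj_one : cj 1 = 1 := rfl
theorem add_self (x : F4) : x + x = 0 := by revert x; decide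
theorem cj_eq (x : F4) : cj x = x ^ 2 := by revert x; decide

/-- The ambient group. -/
@[ext] structure Raw where
  l : F4
  p : F4
  q : F4
  a : F4
  b : F4
  c : F4
  d : F4
  deriving DecidableEq

namespace Raw

/-- The product. -/
def mul (x y : Raw) : Raw where
  l := x.l + y.l
  p := x.p + (y.p + x.l * y.q)
  q := x.q + y.q
  a := x.a + (y.a + x.l * y.c + cj x.l * (y.b + x.l * y.d)) + x.p * cj (y.p + x.l * y.q)
  b := x.b + (y.b + x.l * y.d) + x.p * cj y.q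
  c := x.c + (y.c + cj x.l * y.d) + x.q * cj (y.p + x.l * y.q)
  d := x.d + y.d + x.q * cj y.q

/-- The inverse. -/
def inv (x : Raw) : Raw where
  l := x.l
  p := x.p + x.l * x.q
  q := x.q
  a := x.a + x.p * cj x.p + x.l * (x.c + x.q * cj x.p) + cj x.l * ((x.b + x.p * cj x.q) +
    x.l * (x.d + x.q * cj x.q))
  b := x.b + x.p * cj x.q + x.l * (x.d + x.q * cj x.q)
  c := x.c + x.q * cj x.p + cj x.l * (x.d + x.q * cj x.q)
  d := x.d + x.q * cj x.q

instance : Mul Raw := ⟨mul⟩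
instance : One Raw := ⟨⟨0, 0, 0, 0, 0, 0, 0⟩⟩
instance : Inv Raw := ⟨inv⟩

theorem mul_def (x y : Raw) : x * y = mul x y := rfl
theorem one_def : (1 : Raw) = ⟨0, 0, 0, 0, 0, 0, 0⟩ := rfl
theorem inv_def (x : Raw) : x⁻¹ = inv x := rfl

theorem two_zero : (2 : F4) = 0 := by decide

instance : Group Raw where
  mul_assoc x y z := by
    simp only [mul_def, mul, Raw.mk.injEq, cj_add, cj_mul]
    refine ⟨?_, ?_, ?_, ?_, ?_, ?_, ?_⟩ <;> ring
  one_mul x := by
    simp only [mul_def, mul, one_def, cj_zero]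
    ext <;> simp
  mul_one x := by
    simp only [mul_def, mul, one_def, cj_zero]
    ext <;> simp [cj_zero]
  inv_mul_cancel x := by
    simp only [mul_def, mul, one_def, inv_def, inv, Raw.mk.injEq, cj_add, cj_mul]
    refine ⟨?_, ?_, ?_, ?_, ?_, ?_, ?_⟩ <;> ring_nf <;> simp [two_zero]

end Raw

end Cfsg.Agent.SylowU5.Model
end

-- part: SylowU5/Table
section
/-!
The group `M0` of order 1024 (a Sylow 2-subgroup of `SU_5(2)`) with elements coded by natural numbers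
`< 1024`; the product is computed by a table look-up, so that the kernel can do large computations.
-/

set_option autoImplicit false
set_option maxRecDepth 100000

namespace Cfsg.Agent.SylowU5.Model

open Cfsg.Agent.Lib.FieldFour

/-- The table of the corrections. -/
def TAB : ℕ := 0xbafbeea68a29aabaeab6cb2da68a29bafbeeb6cb2daabaea5155544d24934114505d65974934d25545155975d6450411ebbefaf7cf3dffefbfe39e78f7cf3debbefae39e78ffefbf1051440c20830400011871c60830c21441051c6187001040beebafa29a68aabaeab6cb2da68a29bafbeeb2db6caeaaab5545154934d24114505d65974934d25545155d6597411450ebbefaf7cf3dfbfffee78e39f3df7cefaebbe39e78ffefbf1051440c20830010401c61870c20831051441c6187001040bafbeea68a29aabaeab6cb2da29a68beebafb2db6caeaaab5545154934d24504115975d64934d25545155975d6450411ebbefaf7cf3dffefbfe39e78f3df7cefaebbe78e39fbfffe1441050830c20010401c61870830c21441051c6187001040beebafa29a68aabaeab6cb2da29a68beebafb6cb2daabaea5155544d24934504115975d6493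4d25545155d6597411450ebbefaf7cf3dfbfffee78e39f7cf3debbefae78e39fbfffe1441050830c20400011871c60c20831051441c6187001040b2db6caeaaabaabaeab6cb2dbeebafa29a68a68a29bafbee6196587de79f79f7de65861969b6da75c71d71d75c6da69bcb3cf2d74d35d74d35cb3cf2c70c31db7df6db7df6c70c310830c21441051441050830c20010401c61871c6187001040b6cb2daabaeaaabaeab6cb2dbeebafa29a68a29a68beebaf65861979f7de79f7de65861969b6da75c71d75c71d69b6dacb3cf2d74d35d35d74cf2cb3c31c70df6db7db7df6c70c310830c21441051051440c20830400011871c61c6187001040b2db6caeaaabaabaeab6cb2dbafbeea68a29a29a68beebaf65861979f7de7de79f61965869b6da75c71d71d75c6da69bcb3cf2d74d35d74d35cb3cf2c31c70df6db7df6db7c31c700c20831051441051440c20830010401c61871c6187001040b6cb2daabaeaaabaeab6cb2dbafbeea68a29a68a29bafbee6196587de79f7de79f61965869b6da75c71d75c71d69b6dacb3cf2d74d35d35d74cf2cb3c70c31db7df6df6db7c31c700c20831051441441050830c20400011871c61c61870010408218609e69a78a38e29649259649258a38e29e69a782186079f7d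e65861971d75c6da69b69b6da75c71d6196587de79febbefaf7cf3de78e39fbfffeffefbfe39e78f3df7cefaebb0010401c61870c20831051441051440c20831c61870010408608219a79e68a38e29649259649258a38e29a79e68608217de79f61965871d75c6da69b69b6da75c71d65861979f7deebbefaf7cf3de39e78ffefbffbfffee78e39f3df7cefaebb0010401c61870830c21441051441050830c21c61870010408218609e69a78a38e29649259259648e28a39a79e68608217de79f61965875c71d69b6da69b6da75c71d6196587de79febbefaf7cf3de78e39fbfffefbfffee78e39f7cf3debbefa0400011871c60830c21441051051440c20831c61870010408608219a79e68a38e29649259259648e28a39e69a782186079f7de65861975c71d69b6da69b6da75c71d65861979f7deebbefaf7cf3de39e78ffefbfffefbfe39e78f7cf3debbefa0400011871c60c20831051441441050830c21c61870010408a38e29649258a38e29649258e28a39259648e28a39259644934d25545154934d25545154934d25545154934d2554515cb3cf2d74d35cf2cb3d35d74cf2cb3d35d74cb3cf2d74d351871c60400011c61870010401871c60400011c61870010408e28a39259648a38e29649258e28a39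259648a38e29649254d24935155544934d25545154934d25545154d2493515554cb3cf2d74d35cb3cf2d74d35cb3cf2d74d35cb3cf2d74d351871c60400011871c60400011c61870010401c61870010408a38e29649258a38e29649258a38e29649258a38e29649254d24935155544d24935155544934d25545154934d2554515cb3cf2d74d35cf2cb3d35d74cb3cf2d74d35cf2cb3d35d741c61870010401871c60400011871c60400011c61870010408e28a39259648a38e29649258a38e29649258e28a39259644934d25545154d24935155544934d25545154d2493515554cb3cf2d74d35cb3cf2d74d35cf2cb3d35d74cf2cb3d35d741c61870010401c61870010401c61870010401c618700104065865871d71d75c75c6196197de7de69b69b6da6da79f79fdf6df6cb3cb3cb3cb3df6df6c31c31d74d74d74d74c31c31aeaaeabafbafbeebeeaabaabb2db2da68a68a29a29b6cb6c1c61c60830830830831c61c604004010510510510504004061961975c75c75c75c6196197de7de69b69b69b69b7de7dedf6df6cb3cb3cf2cf2db7db7c70c70d35d35d74d74c31c31aabaabbeebeebeebeeaabaabb2db2da68a68a68a68b2db2d1c61c60830830c20c218718700100114414410510504004061961975c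75c71d71d6586587de7de69b69b6da6da79f79fdf6df6cb3cb3cb3cb3df6df6c70c70d35d35d35d35c70c70aeaaeabafbafbeebeeaabaabb6cb6ca29a29a68a68b2db2d1871870c20c20c20c218718704004010510510510504004065865871d71d71d71d6586587de7de69b69b69b69b7de7dedf6df6cb3cb3cf2cf2db7db7c31c31d74d74d35d35c70c70aabaabbeebeebeebeeaabaabb6cb6ca29a29a29a29b6cb6c1871870c20c20830831c61c600100114414410510504004075c75c6196196da6da79f79f7de7de69b69b65865871d71dffeffeebbebbe39e39f7cf7cf3df3de78e78efaefafbffbf8608609259259e69e68a38a38a38a39e69e69259258608600400401051051871870c20c20c20c218718710510504004071d71d6586586da6da79f79f7de7de69b69b61961975c75cffeffeebbebbe78e78f3df3df7cf7ce39e39efaefafbffbf8218219649649e69e68a38a38a38a39e69e69649648218210400401051051c61c60830830830831c61c610510504004071d71d65865869b69b7de7de7de7de69b69b65865871d71dffeffeebbebbe39e39f7cf7cf7cf7ce39e39ebbebbffeffe8608609259259e69e68a38a38e28e29a79a79649648218210010011441441c61c60830830c20c218718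710510504004075c75c61961969b69b7de7de7de7de69b69b61961975c75cffeffeebbebbe78e78f3df3df3df3de78e78ebbebbffeffe8218219649649e69e68a38a38e28e29a79a79259258608600010011441441871870c20c20830831c61c61051050400404d24d25975974504505155155d65d6493493554554411411ffeffeebbebbf3df3de78e78ebbebbffeffee78e78f3df3db6cb6ca29a29beebeeaabaaba29a29b6cb6caabaabbeebee0c20c21871870010011441441c61c60830831051050400404934935d65d64504505155155d65d6493493515515450450ffeffeebbebbf7cf7ce39e39efaefafbffbfe78e78f3df3db2db2da68a68beebeeaabaaba29a29b6cb6caeaaeabafbaf0c20c21871870400401051051871870c20c21051050400404934935d65d64114115545545d65d6493493554554411411ffeffeebbebbf3df3de78e78efaefafbffbfe39e39f7cf7cb6cb6ca29a29beebeeaabaaba68a68b2db2daeaaeabafbaf0830831c61c60400401051051c61c60830831051050400404d24d25975974114115545545d65d6493493515515450450ffeffeebbebbf7cf7ce39e39ebbebbffeffee39e39f7cf7cb2db2da68a68beebeeaabaaba68a68b2db2daabaabbeebee0830831c61c60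010011441441871870c20c21051050400405d65d64934935d65d64934935d65d64934935d65d6493493df6df6cb3cb3db7db7cf2cf2db7db7cf2cf2df6df6cb3cb39e69e68a38a39e69e68a38a39a79a78e28e29a79a78e28e21441440010011051050400401441440010011051050400405975974d24d25d65d64934935d65d64934935975974d24d2df6df6cb3cb3df6df6cb3cb3df6df6cb3cb3df6df6cb3cb39a79a78e28e29e69e68a38a39a79a78e28e29e69e68a38a31441440010011441440010011051050400401051050400405975974d24d25975974d24d25d65d64934935d65d6493493df6df6cb3cb3db7db7cf2cf2df6df6cb3cb3db7db7cf2cf29e69e68a38a39e69e68a38a39e69e68a38a39e69e68a38a31051050400401441440010011441440010011051050400405d65d64934935975974d24d25d65d64934935975974d24d2df6df6cb3cb3df6df6cb3cb3db7db7cf2cf2db7db7cf2cf29a79a78e28e29e69e68a38a39e69e68a38a39a79a78e28e2105105040040105105040040105105040040105105040040f7df3cfbefffe38e79efbebaebaefbe79e38ffffbef3cf7d8618208a28e39659249a69e79a69e79659248a28e38618206db69a6186597df79e71c75d75d71c79e7df659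61869a6db0410000820c31041451c71861c71861041450820c3041000f7df3cfbefffe79e38ebaefbefbebae38e79ffffbef3cf7d8208618e38a29659249a69e79a69e79659248e38a282086169a6db6596187df79e71c75d75d71c79e7df6186596db69a0410000820c31451041861c71861c71451040820c3041000f7df3cfbefffe38e79efbebaefbebae38e79fbeffff7df3c8618208a28e39659249a69e79e79a69249658e38a282086169a6db65961879e7df75d71c75d71c79e7df65961869a6db0000410c30821451041861c71c71861041450820c3041000f7df3cfbefffe79e38ebaefbebaefbe79e38fbeffff7df3c8208618e38a29659249a69e79e79a69249658a28e38618206db69a61865979e7df75d71c75d71c79e7df6186596db69a0000410c30821041451c71861861c71451040820c3041000f7df3cfbefffebaefbe79e38fbeffff7df3ce79e38ebaefbaebaaaa28a69b6db2cbaebefa28a69aebaaabaebefb6db2c5d75965145554514104924d35555145965d74d34924104511c71861041450000410c30821451041861c70820c3041000f7df3cfbefffefbebae38e79ffffbef3cf7de79e38ebaefbaaaaeba69a28b6db2cbaebefa28a69aebaaabefbaeb2cb6d5965d755551445141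04924d35555145965d74924d34514101c71861041450410000820c31041451c71860820c3041000f7df3cfbefffebaefbe79e38ffffbef3cf7de38e79efbebaaebaaaa28a69b6db2cbaebefa69a28aaaaebbefbaeb2cb6d5965d75555144104514d34925555145965d74d34924104511861c71451040410000820c31451041861c70820c3041000f7df3cfbefffefbebae38e79fbeffff7df3ce38e79efbebaaaaaeba69a28b6db2cbaebefa69a28aaaaebbaebefb6db2c5d75965145554104514d34925555145965d74924d34514101861c71451040000410c30821041451c71860820c3041000d75d34db6df7db6df7d75d34c30c71cf3cb2cf3cb2c30c71befbaeb2cb6db6db2cbaebefaaaaeba69a28a28a69aebaaa65961869a6db6db69a61865975d71c79e7df7df79e71c75d1451041861c71861c71451040410000820c30820c3041000d75d34db6df7df7db6d34d75c71c30cb2cf3cf3cb2c30c71baebefb6db2cb6db2cbaebefaaaaeba69a28a69a28aaaaeb6186596db69a6db69a61865975d71c79e7df79e7df75d71c1451041861c71c71861041450000410c30820820c3041000d75d34db6df7db6df7d75d34c71c30cb2cf3cb2cf3c71c30befbaeb2cb6db6db2cbaebefaebaaaa28a69a69a28a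aaaeb6186596db69a69a6db65961875d71c79e7df7df79e71c75d1041451c71861c71861041450410000820c30820c3041000d75d34db6df7df7db6d34d75c30c71cf3cb2cb2cf3c71c30baebefb6db2cb6db2cbaebefaebaaaa28a69a28a69aebaaa65961869a6db69a6db65961875d71c79e7df79e7df75d71c1041451c71861861c71451040000410c30820820c3041000d75d34db6df7d34d75df7db6d34d75df7db6d75d34db6df79659249a69e79659249a69e79249659e79a69249659e79a65555145965d75555145965d75555145965d75555145965d70c30820000410820c30410000c30820000410820c3041000d75d34db6df7d75d34db6df7d75d34db6df7d75d34db6df79249659e79a69659249a69e79249659e79a69659249a69e75145555d75965555145965d75555145965d75145555d75960c30820000410c30820000410820c30410000820c3041000d75d34db6df7d34d75df7db6d75d34db6df7d34d75df7db69659249a69e79659249a69e79659249a69e79659249a69e75145555d75965145555d75965555145965d75555145965d70820c30410000c30820000410c30820000410820c3041000d75d34db6df7d75d34db6df7d34d75df7db6d34d75df7db69249659e79a69659249a6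9e79659249a69e79249659e79a65555145965d75145555d75965555145965d75145555d75960820c30410000820c30410000820c30410000820c30410002cb2cb2cb2cb38e38e38e38e34d34d34d34d2082082082080c30c30c30c31861861861861451451451450000000000002cb2cb2cb2cb38e38e38e38e34d34d34d34d2082082082080c30c30c30c31861861861861451451451450000000000002cb2cb2cb2cb3cf3cf3cf3cf30c30c30c30c2082082082080c30c30c30c31c71c71c71c71041041041040000000000002cb2cb2cb2cb3cf3cf3cf3cf30c30c30c30c2082082082080c30c30c30c31c71c71c71c710410410410400000000000028a28a28a28a3cf3cf3cf3cf34d34d34d34d2082082082080820820820821c71c71c71c714514514514500000000000028a28a28a28a3cf3cf3cf3cf34d34d34d34d2082082082080820820820821c71c71c71c714514514514500000000000028a28a28a28a38e38e38e38e30c30c30c30c20820820820808208208208218618618618610410410410400000000000028a28a28a28a38e38e38e38e30c30c30c30c20820820820808208208208218618618618610410410410400000000000034d34d34d34d28a28a28a28a3cf3cf3cf3cf20820820820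834d34d34d34d28a28a28a28a3cf3cf3cf3cf2082082082081451451451450820820820821c71c71c71c70000000000001451451451450820820820821c71c71c71c700000000000034d34d34d34d2cb2cb2cb2cb38e38e38e38e20820820820834d34d34d34d2cb2cb2cb2cb38e38e38e38e2082082082081451451451450c30c30c30c31861861861860000000000001451451451450c30c30c30c318618618618600000000000030c30c30c30c2cb2cb2cb2cb3cf3cf3cf3cf20820820820830c30c30c30c2cb2cb2cb2cb3cf3cf3cf3cf2082082082081041041041040c30c30c30c31c71c71c71c70000000000001041041041040c30c30c30c31c71c71c71c700000000000030c30c30c30c28a28a28a28a38e38e38e38e20820820820830c30c30c30c28a28a28a28a38e38e38e38e2082082082081041041041040820820820821861861861860000000000001041041041040820820820821861861861860000000000001c71c71c71c71041041041040c30c30c30c30000000000003cf3cf3cf3cf30c30c30c30c2cb2cb2cb2cb2082082082083cf3cf3cf3cf30c30c30c30c2cb2cb2cb2cb2082082082081c71c71c71c71041041041040c30c30c30c30000000000001c71c71c71c71451451451450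820820820820000000000003cf3cf3cf3cf34d34d34d34d28a28a28a28a2082082082083cf3cf3cf3cf34d34d34d34d28a28a28a28a2082082082081c71c71c71c71451451451450820820820820000000000001861861861861451451451450c30c30c30c300000000000038e38e38e38e34d34d34d34d2cb2cb2cb2cb20820820820838e38e38e38e34d34d34d34d2cb2cb2cb2cb2082082082081861861861861451451451450c30c30c30c300000000000018618618618610410410410408208208208200000000000038e38e38e38e30c30c30c30c28a28a28a28a20820820820838e38e38e38e30c30c30c30c28a28a28a28a208208208208186186186186104104104104082082082082000000000000041041041041000000000000041041041041000000000000041041041041000000000000041041041041000000000000041041041041000000000000041041041041000000000000041041041041000000000000041041041041000000000000041041041041041041041041000000000000000000000000041041041041041041041041000000000000000000000000041041041041041041041041000000000000000000000000041041041041041041041041000000000000000000000000000000000000041041041041041041041041000000000000000000000000041041041041041041041041000000000000000000000000041041041041041041041041000000000000000000000000041041041041041041041041000000000000000000000000000000000000000000000000000000000000000000000000000000000000000000000000000000000000000000000000000000000000000000000000000000000000000000000000000000000000000000000000000000000000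

/-- The correction. -/
def kap (m n : ℕ) : ℕ :=
  Nat.land (Nat.shiftRight TAB (Nat.mul 6 (Nat.add (Nat.mul 128 (Nat.shiftRight m 4))
    (Nat.land (Nat.shiftRight n 1) 127)))) 63

/-- The product of codes. -/
def cm (m n : ℕ) : ℕ := Nat.xor (Nat.xor m n) (kap m n)

/-- Loop: `f` holds for all numbers `< n`. -/
def allB (f : ℕ → Bool) (n : ℕ) : Bool := Nat.rec true (fun n ih => and (f n) ih) n

theorem allB_iff (f : ℕ → Bool) (n : ℕ) : allB f n = true ↔ ∀ m, m < n → f m = true := by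
  induction n with
  | zero => simp [allB]
  | succ n ih =>
    have : allB f (n + 1) = and (f n) (allB f n) := rfl
    rw [this, Bool.and_eq_true, ih]
    constructor
    · rintro ⟨h1, h2⟩ m hm
      rcases Nat.lt_succ_iff_lt_or_eq.1 hm with h | h
      · exact h2 m h
      · rw [h]; exact h1
    · intro h
      exact ⟨h n (Nat.lt_succ_self n), fun m hm => h m (Nat.lt_succ_of_lt hm)⟩

/-- From numbers to `F4`. -/
def ofN (n : ℕ) : F4 :=
  bif Nat.beq n 0 then F4.o else bif Nat.beq n 1 then F4.i else bif Nat.beq n 2 then F4.w else F4.v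

/-- Decoding. -/
def dec (n : ℕ) : Raw where
  l := ofN (Nat.land (Nat.shiftRight n 8) 3)
  p := ofN (Nat.land (Nat.shiftRight n 4) 3)
  q := ofN (Nat.land (Nat.shiftRight n 6) 3)
  a := F4.add (ofN (Nat.land n 1)) (F4.mul F4.w (F4.mul (ofN (Nat.land (Nat.shiftRight n 4) 3))
    (cj (ofN (Nat.land (Nat.shiftRight n 4) 3)))))
  b := F4.add (ofN (Nat.land (Nat.shiftRight n 1) 3)) (F4.mul (ofN (Nat.land (Nat.shiftRight n 4) 3))
    (cj (ofN (Nat.land (Nat.shiftRight n 6) 3))))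
  c := cj (ofN (Nat.land (Nat.shiftRight n 1) 3))
  d := F4.add (ofN (Nat.land (Nat.shiftRight n 3) 1)) (F4.mul F4.w
    (F4.mul (ofN (Nat.land (Nat.shiftRight n 6) 3)) (cj (ofN (Nat.land (Nat.shiftRight n 6) 3)))))

/-- Equality test on `F4`. -/
def beqF : F4 → F4 → Bool
  | F4.o, F4.o => true
  | F4.i, F4.i => true
  | F4.w, F4.w => true
  | F4.v, F4.v => true
  | _, _ => false

theorem beqF_iff (x y : F4) : beqF x y = true ↔ x = y := by revert x y; decide

/-- Equality test on `Raw`. -/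
def beqR (x y : Raw) : Bool :=
  beqF x.l y.l && (beqF x.p y.p && (beqF x.q y.q && (beqF x.a y.a && (beqF x.b y.b &&
    (beqF x.c y.c && beqF x.d y.d)))))

theorem beqR_iff (x y : Raw) : beqR x y = true ↔ x = y := by
  simp only [beqR, Bool.and_eq_true, beqF_iff]
  constructor
  · rintro ⟨h1, h2, h3, h4, h5, h6, h7⟩
    exact Raw.ext h1 h2 h3 h4 h5 h6 h7
  · rintro rfl
    exact ⟨rfl, rfl, rfl, rfl, rfl, rfl, rfl⟩

/-- Translation by an element of the elementary abelian group. -/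
def shift (s : ℕ) (x : Raw) : Raw where
  l := x.l
  p := x.p
  q := x.q
  a := ofN (Nat.land s 1) + x.a
  b := ofN (Nat.land (Nat.shiftRight s 1) 3) + x.b
  c := cj (ofN (Nat.land (Nat.shiftRight s 1) 3)) + x.c
  d := ofN (Nat.land (Nat.shiftRight s 3) 1) + x.d

private theorem land_xor (a b k : ℕ) : Nat.land (Nat.xor a b) k = Nat.xor (Nat.land a k) (Nat.land b k) :=
  Nat.and_xor_distrib_right
private theorem land3_lt (a : ℕ) : Nat.land a 3 < 4 := Nat.lt_succ_of_le Nat.and_le_right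
private theorem land1_lt (a : ℕ) : Nat.land a 1 < 4 :=
  Nat.lt_of_le_of_lt (Nat.and_le_right (n := a) (m := 1)) (by decide)
private theorem ofN_xor : ∀ a < 4, ∀ b < 4, ofN (Nat.xor a b) = ofN a + ofN b := by decide +kernel
private theorem l3 (a b : ℕ) : ofN (Nat.land (Nat.xor a b) 3) = ofN (Nat.land a 3) + ofN (Nat.land b 3) := by
  rw [land_xor, ofN_xor _ (land3_lt a) _ (land3_lt b)]
private theorem l1 (a b : ℕ) : ofN (Nat.land (Nat.xor a b) 1) = ofN (Nat.land a 1) + ofN (Nat.land b 1) := by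
  rw [land_xor, ofN_xor _ (land1_lt a) _ (land1_lt b)]
private theorem shr_xor (a b k : ℕ) :
    Nat.shiftRight (Nat.xor a b) k = Nat.xor (Nat.shiftRight a k) (Nat.shiftRight b k) :=
  Nat.shiftRight_xor_distrib
private theorem add_eq (x y : F4) : F4.add x y = x + y := rfl
theorem dec_xor (s n : ℕ) (hs : s < 16) (hn : n < 1024) : dec (Nat.xor s n) = shift s (dec n) := by
  have z : ∀ s < 16, ofN (Nat.land (Nat.shiftRight s 8) 3) = 0 ∧ ofN (Nat.land (Nat.shiftRight s 4) 3) = 0 ∧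
    ofN (Nat.land (Nat.shiftRight s 6) 3) = 0 := by decide +kernel
  obtain ⟨z1, z2, z3⟩ := z s hs
  simp only [dec, shift, shr_xor, l1, l3, z1, z2, z3, zero_add, add_eq, cj_add, add_assoc]

private def f4 (n : ℕ) : F4 := ofN (Nat.land n 3)
private def mN (a b : ℕ) : ℕ :=
  Nat.shiftRight 2625168384 (Nat.mul 2 (Nat.add (Nat.mul 4 (Nat.land a 3)) (Nat.land b 3)))
private def cN (a : ℕ) : ℕ := Nat.shiftRight 180 (Nat.mul 2 (Nat.land a 3))
private theorem f4_xor (a b : ℕ) : f4 (Nat.xor a b) = f4 a + f4 b := l3 a b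
private theorem f4_mN (a b : ℕ) : f4 (mN a b) = f4 a * f4 b := by
  have : ∀ a < 4, ∀ b < 4, f4 (Nat.shiftRight 2625168384 (Nat.mul 2 (Nat.add (Nat.mul 4 a) b))) = ofN a * ofN b := by
    decide +kernel
  exact this _ (land3_lt a) _ (land3_lt b)
private theorem f4_cN (a : ℕ) : f4 (cN a) = cj (f4 a) := by
  have : ∀ a < 4, f4 (Nat.shiftRight 180 (Nat.mul 2 a)) = cj (ofN a) := by decide +kernel
  exact this _ (land3_lt a)
private theorem f4_one (a : ℕ) : f4 (Nat.land a 1) = ofN (Nat.land a 1) := by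
  have : ∀ a < 4, f4 a = ofN a := by decide +kernel
  exact this _ (land1_lt a)
private def nL (n : ℕ) : ℕ := Nat.shiftRight n 8
private def nP (n : ℕ) : ℕ := Nat.shiftRight n 4
private def nQ (n : ℕ) : ℕ := Nat.shiftRight n 6
private def nA (n : ℕ) : ℕ := Nat.xor (Nat.land n 1) (mN 2 (mN (nP n) (cN (nP n))))
private def nB (n : ℕ) : ℕ := Nat.xor (Nat.shiftRight n 1) (mN (nP n) (cN (nQ n)))
private def nC (n : ℕ) : ℕ := cN (Nat.shiftRight n 1)
private def nD (n : ℕ) : ℕ := Nat.xor (Nat.land (Nat.shiftRight n 3) 1) (mN 2 (mN (nQ n) (cN (nQ n))))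
private theorem dec_eq (n : ℕ) :
    dec n = ⟨f4 (nL n), f4 (nP n), f4 (nQ n), f4 (nA n), f4 (nB n), f4 (nC n), f4 (nD n)⟩ := by
  simp only [nA, nB, nC, nD, f4_xor, f4_mN, f4_cN, f4_one]
  rfl
private def e4 (a b : ℕ) (k : Bool) : Bool := Bool.rec false k (Nat.beq (Nat.land a 3) (Nat.land b 3))
private theorem e4_iff {a b : ℕ} {k : Bool} (h : e4 a b k = true) : f4 a = f4 b ∧ k = true := by
  unfold e4 at h
  cases h1 : Nat.beq (Nat.land a 3) (Nat.land b 3)
  · rw [h1] at h; exact absurd h Bool.false_ne_true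
  · rw [h1] at h; exact ⟨congrArg ofN (Nat.eq_of_beq_eq_true h1), h⟩
private def okM (x y z : ℕ) : Bool :=
  e4 (nL z) (Nat.xor (nL x) (nL y)) (e4 (nP z) (Nat.xor (nP x) (Nat.xor (nP y) (mN (nL x) (nQ y))))
  (e4 (nQ z) (Nat.xor (nQ x) (nQ y))
  (e4 (nA z) (Nat.xor (Nat.xor (nA x) (Nat.xor (Nat.xor (nA y) (mN (nL x) (nC y)))
      (mN (cN (nL x)) (Nat.xor (nB y) (mN (nL x) (nD y))))))
      (mN (nP x) (cN (Nat.xor (nP y) (mN (nL x) (nQ y))))))
  (e4 (nB z) (Nat.xor (Nat.xor (nB x) (Nat.xor (nB y) (mN (nL x) (nD y)))) (mN (nP x) (cN (nQ y))))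
  (e4 (nC z) (Nat.xor (Nat.xor (nC x) (Nat.xor (nC y) (mN (cN (nL x)) (nD y))))
      (mN (nQ x) (cN (Nat.xor (nP y) (mN (nL x) (nQ y))))))
  (e4 (nD z) (Nat.xor (Nat.xor (nD x) (nD y)) (mN (nQ x) (cN (nQ y)))) true))))))
private theorem okM_sound {x y z : ℕ} (h : okM x y z = true) : dec z = dec x * dec y := by
  obtain ⟨h1, h⟩ := e4_iff h
  obtain ⟨h2, h⟩ := e4_iff h
  obtain ⟨h3, h⟩ := e4_iff h
  obtain ⟨h4, h⟩ := e4_iff h
  obtain ⟨h5, h⟩ := e4_iff h
  obtain ⟨h6, h⟩ := e4_iff h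
  obtain ⟨h7, -⟩ := e4_iff h
  simp only [f4_xor, f4_mN, f4_cN] at h1 h2 h3 h4 h5 h6 h7
  rw [dec_eq z, dec_eq x, dec_eq y, h1, h2, h3, h4, h5, h6, h7]
  rfl
private def frc (v : ℕ) (k : ℕ → Bool) : Bool := Nat.rec (k 0) (fun n _ => k (Nat.succ n)) v
private theorem frc_eq (v : ℕ) (k : ℕ → Bool) : frc v k = k v := by cases v <;> rfl

private theorem chk_fast : allB (fun m => allB (fun n => frc (cm (Nat.mul 16 m) (Nat.mul 2 n))
    (okM (Nat.mul 16 m) (Nat.mul 2 n))) 128) 64 = true := by decide +kernel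

theorem dec_mul_aux (m n : ℕ) (hm : m < 64) (hn : n < 128) :
    dec (cm (Nat.mul 16 m) (Nat.mul 2 n)) = dec (Nat.mul 16 m) * dec (Nat.mul 2 n) :=
  okM_sound ((frc_eq _ _).symm.trans ((allB_iff _ _).1 ((allB_iff _ _).1 chk_fast m hm) n hn))

end Cfsg.Agent.SylowU5.Model
end

-- part: SylowU5/Code
section
/-!
The group `M0` of order 1024 on codes.
-/

set_option autoImplicit false
set_option maxRecDepth 100000

namespace Cfsg.Agent.SylowU5.Model

open Cfsg.Agent.Lib.FieldFour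

theorem chk_split16 : allB (fun n => Nat.beq n (Nat.xor (Nat.mod n 16) (Nat.mul 16 (Nat.div n 16))))
    1024 = true := by decide +kernel

theorem chk_split2 : allB (fun n => Nat.beq n (Nat.xor (Nat.mod n 2)
    (Nat.xor (Nat.mul 2 (Nat.mod (Nat.div n 2) 128)) (Nat.mul 256 (Nat.div n 256)))))
    1024 = true := by decide +kernel

theorem split16 (n : ℕ) (hn : n < 1024) : n = Nat.xor (n % 16) (Nat.mul 16 (n / 16)) :=
  Nat.eq_of_beq_eq_true ((allB_iff _ _).1 chk_split16 n hn)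

theorem split2 (n : ℕ) (hn : n < 1024) :
    n = Nat.xor (n % 2) (Nat.xor (Nat.mul 2 (n / 2 % 128)) (Nat.mul 256 (n / 256))) :=
  Nat.eq_of_beq_eq_true ((allB_iff _ _).1 chk_split2 n hn)

/-- Translation of the first coordinate. -/
def shiftL (s : ℕ) (x : Raw) : Raw := { x with l := ofN s + x.l }

theorem dec_xorL (s n : ℕ) (hs : s < 4) (hn : n < 1024) :
    dec (Nat.xor (Nat.mul 256 s) n) = shiftL s (dec n) := by
  have z : ∀ s < 4, ofN (Nat.land (Nat.shiftRight (Nat.mul 256 s) 8) 3) = ofN s ∧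
    ofN (Nat.land (Nat.shiftRight (Nat.mul 256 s) 4) 3) = 0 ∧
    ofN (Nat.land (Nat.shiftRight (Nat.mul 256 s) 6) 3) = 0 ∧
    ofN (Nat.land (Nat.shiftRight (Nat.mul 256 s) 1) 3) = 0 ∧
    ofN (Nat.land (Nat.shiftRight (Nat.mul 256 s) 3) 1) = 0 ∧
    ofN (Nat.land (Nat.mul 256 s) 1) = 0 := by decide +kernel
  obtain ⟨z1, z2, z3, z4, z5, z6⟩ := z s hs
  simp only [dec, shiftL, shr_xor, l1, l3, z1, z2, z3, z4, z5, z6, zero_add]

theorem kap_eq (m n m' n' : ℕ) (h1 : Nat.shiftRight m 4 = Nat.shiftRight m' 4)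
    (h2 : Nat.land (Nat.shiftRight n 1) 127 = Nat.land (Nat.shiftRight n' 1) 127) :
    kap m n = kap m' n' := by
  unfold kap
  rw [h1, h2]

theorem kap_lt (m n : ℕ) : kap m n < 64 := by
  unfold kap
  have : Nat.land (Nat.shiftRight TAB (Nat.mul 6 (Nat.add (Nat.mul 128 (Nat.shiftRight m 4))
    (Nat.land (Nat.shiftRight n 1) 127)))) 63 ≤ 63 := Nat.and_le_right
  omega

theorem xor_lt {a b : ℕ} (ha : a < 1024) (hb : b < 1024) : Nat.xor a b < 1024 :=
  Nat.xor_lt_two_pow (n := 10) ha hb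

theorem cm_lt {a b : ℕ} (ha : a < 1024) (hb : b < 1024) : cm a b < 1024 :=
  xor_lt (xor_lt ha hb) (lt_trans (kap_lt a b) (by norm_num))

theorem shiftRight16 (n : ℕ) : Nat.shiftRight n 4 = Nat.shiftRight (Nat.mul 16 (n / 16)) 4 := by
  change n >>> 4 = (16 * (n / 16)) >>> 4
  rw [Nat.shiftRight_eq_div_pow, Nat.shiftRight_eq_div_pow]
  norm_num

theorem shiftRight2 (n : ℕ) : Nat.land (Nat.shiftRight n 1) 127 =
    Nat.land (Nat.shiftRight (Nat.mul 2 (n / 2 % 128)) 1) 127 := by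
  change (n >>> 1) &&& (2 ^ 7 - 1) = ((2 * (n / 2 % 128)) >>> 1) &&& (2 ^ 7 - 1)
  rw [Nat.and_two_pow_sub_one_eq_mod, Nat.and_two_pow_sub_one_eq_mod, Nat.shiftRight_eq_div_pow,
    Nat.shiftRight_eq_div_pow]
  omega

theorem cm_split (m n : ℕ) (hm : m < 1024) (hn : n < 1024) :
    cm m n = Nat.xor (m % 16) (Nat.xor (n % 2) (Nat.xor (Nat.mul 256 (n / 256))
      (cm (Nat.mul 16 (m / 16)) (Nat.mul 2 (n / 2 % 128))))) := by
  unfold cm
  rw [← kap_eq m n (Nat.mul 16 (m / 16)) (Nat.mul 2 (n / 2 % 128)) (shiftRight16 m)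
    (shiftRight2 n)]
  have h1 := split16 m hm
  have h2 := split2 n hn
  set a := m % 16
  set b := Nat.mul 16 (m / 16)
  set c := n % 2
  set d := Nat.mul 2 (n / 2 % 128)
  set e := Nat.mul 256 (n / 256)
  set k := kap m n
  change (m ^^^ n) ^^^ k = a ^^^ (c ^^^ (e ^^^ ((b ^^^ d) ^^^ k)))
  change m = a ^^^ b at h1
  change n = c ^^^ (d ^^^ e) at h2
  rw [h1, h2]
  simp only [Nat.xor_assoc]
  congr 1
  simp only [← Nat.xor_assoc]
  rw [Nat.xor_comm b c]
  congr 1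
  simp only [Nat.xor_assoc]
  congr 1
  rw [← Nat.xor_assoc, Nat.xor_comm]

theorem shift_mul (s : ℕ) (x y : Raw) : shift s x * y = shift s (x * y) := by
  simp only [Raw.mul_def, Raw.mul, shift, Raw.mk.injEq]
  refine ⟨trivial, trivial, trivial, ?_, ?_, ?_, ?_⟩ <;> ring

theorem mul_shift (s : ℕ) (hs : s < 2) (x y : Raw) : x * shift s y = shift s (x * y) := by
  have h0 : ofN (Nat.land (Nat.shiftRight s 1) 3) = 0 := by
    interval_cases s <;> rfl
  have h1 : ofN (Nat.land (Nat.shiftRight s 3) 1) = 0 := by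
    interval_cases s <;> rfl
  simp only [Raw.mul_def, Raw.mul, shift, Raw.mk.injEq, h0, h1, cj_zero]
  refine ⟨trivial, trivial, trivial, ?_, ?_, ?_, ?_⟩ <;> ring

theorem mul_shiftL (s : ℕ) (x y : Raw) : x * shiftL s y = shiftL s (x * y) := by
  simp only [Raw.mul_def, Raw.mul, shiftL, Raw.mk.injEq]
  refine ⟨?_, trivial, trivial, trivial, trivial, trivial, trivial⟩
  ring

theorem dec_cm (m n : ℕ) (hm : m < 1024) (hn : n < 1024) : dec (cm m n) = dec m * dec n := by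
  have hm16 : m / 16 < 64 := by omega
  have hn2 : n / 2 % 128 < 128 := by omega
  have hn256 : n / 256 < 4 := by omega
  have e1 : m % 16 < 16 := Nat.mod_lt _ (by norm_num)
  have e2 : n % 2 < 2 := Nat.mod_lt _ (by norm_num)
  have b1 : Nat.mul 16 (m / 16) < 1024 := by change 16 * (m / 16) < 1024; omega
  have b2 : Nat.mul 2 (n / 2 % 128) < 1024 := by change 2 * (n / 2 % 128) < 1024; omega
  have b3 : Nat.mul 256 (n / 256) < 1024 := by change 256 * (n / 256) < 1024; omega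
  have b4 := cm_lt b1 b2
  have h1 : dec m = shift (m % 16) (dec (Nat.mul 16 (m / 16))) := by
    rw [← dec_xor _ _ e1 b1, ← split16 m hm]
  have h2 : dec n = shift (n % 2) (shiftL (n / 256) (dec (Nat.mul 2 (n / 2 % 128)))) := by
    rw [← dec_xorL _ _ hn256 b2, ← dec_xor _ _ (by omega) (xor_lt b3 b2)]
    have h3 := split2 n hn
    have h4 : Nat.xor (Nat.mul 256 (n / 256)) (Nat.mul 2 (n / 2 % 128)) =
      Nat.xor (Nat.mul 2 (n / 2 % 128)) (Nat.mul 256 (n / 256)) := Nat.xor_comm _ _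
    rw [h4, ← h3]
  rw [cm_split m n hm hn, dec_xor _ _ e1 (xor_lt (by omega) (xor_lt b3 b4)),
    dec_xor _ _ (by omega) (xor_lt b3 b4), dec_xorL _ _ hn256 b4, dec_mul_aux _ _ hm16 hn2, h1, h2,
    shift_mul, mul_shift _ e2, mul_shiftL]

/-- Decoding is injective. -/
def encN : F4 → ℕ
  | F4.o => 0
  | F4.i => 1
  | F4.w => 2
  | F4.v => 3

/-- Encoding. -/
def enc (x : Raw) : ℕ :=
  Nat.xor (encN (F4.add x.a (F4.mul F4.w (F4.mul x.p (cj x.p)))))
    (Nat.xor (Nat.mul 2 (encN (cj x.c)))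
    (Nat.xor (Nat.mul 8 (encN (F4.add x.d (F4.mul F4.w (F4.mul x.q (cj x.q))))))
    (Nat.xor (Nat.mul 16 (encN x.p)) (Nat.xor (Nat.mul 64 (encN x.q)) (Nat.mul 256 (encN x.l))))))

private noncomputable def _root_.Cfsg.Agent.LsF.fd5b535_0 : {f // @Cfsg.Agent.SylowU5.Model.allB = f} := ⟨_, by first | (delta Cfsg.Agent.SylowU5.Model.allB; rewrite [Cfsg.Agent.LsF.and_eq]; exact rfl) | exact rfl⟩
private noncomputable def _root_.Cfsg.Agent.LsF.fd5b535_1 : {f // @Cfsg.Agent.SylowU5.Model.encN = f} := ⟨_, by first | (delta Cfsg.Agent.SylowU5.Model.encN; (try delta Cfsg.Agent.SylowU5.Model.cj.match_1); (try delta Cfsg.Agent.Lib.FieldFour.F4.casesOn); exact rfl) | exact rfl⟩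
private noncomputable def _root_.Cfsg.Agent.LsF.fd5b535_2 : {f // @Cfsg.Agent.Lib.FieldFour.F4.add = f} := ⟨_, by first | (delta Cfsg.Agent.Lib.FieldFour.F4.add; (try delta Cfsg.Agent.Lib.FieldFour.F4.add.match_1); (try delta Cfsg.Agent.Lib.FieldFour.F4.casesOn); exact rfl) | exact rfl⟩
private noncomputable def _root_.Cfsg.Agent.LsF.fd5b535_3 : {f // @Cfsg.Agent.Lib.FieldFour.F4.mul = f} := ⟨_, by first | (delta Cfsg.Agent.Lib.FieldFour.F4.mul; (try delta Cfsg.Agent.Lib.FieldFour.F4.mul.match_1); (try delta Cfsg.Agent.Lib.FieldFour.F4.casesOn); exact rfl) | exact rfl⟩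
private noncomputable def _root_.Cfsg.Agent.LsF.fd5b535_4 : {f // @Cfsg.Agent.SylowU5.Model.cj = f} := ⟨_, by first | (delta Cfsg.Agent.SylowU5.Model.cj; (try delta Cfsg.Agent.SylowU5.Model.cj.match_1); (try delta Cfsg.Agent.Lib.FieldFour.F4.casesOn); exact rfl) | exact rfl⟩
private noncomputable def _root_.Cfsg.Agent.LsF.fd5b535_5 : {f // @Cfsg.Agent.SylowU5.Model.enc = f} := ⟨_, by first | (delta Cfsg.Agent.SylowU5.Model.enc; rewrite [Cfsg.Agent.LsF.fd5b535_1.2, Cfsg.Agent.LsF.fd5b535_2.2, Cfsg.Agent.LsF.fd5b535_3.2, Cfsg.Agent.LsF.fd5b535_4.2]; exact rfl) | exact rfl⟩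
private noncomputable def _root_.Cfsg.Agent.LsF.fd5b535_6 : {f // @Cfsg.Agent.SylowU5.Model.ofN = f} := ⟨_, by first | (delta Cfsg.Agent.SylowU5.Model.ofN; rewrite [Cfsg.Agent.LsF.cond_eq]; exact rfl) | exact rfl⟩
private noncomputable def _root_.Cfsg.Agent.LsF.fd5b535_7 : {f // @Cfsg.Agent.SylowU5.Model.dec = f} := ⟨_, by first | (delta Cfsg.Agent.SylowU5.Model.dec; rewrite [Cfsg.Agent.LsF.fd5b535_6.2, Cfsg.Agent.LsF.fd5b535_2.2, Cfsg.Agent.LsF.fd5b535_3.2, Cfsg.Agent.LsF.fd5b535_4.2]; exact rfl) | exact rfl⟩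
theorem chk_enc : allB (fun n => Nat.beq (enc (dec n)) n) 1024 = true := by ((try (rewrite [Cfsg.Agent.LsF.fd5b535_0.2, Cfsg.Agent.LsF.fd5b535_5.2, Cfsg.Agent.LsF.fd5b535_7.2])); decide +kernel)

theorem enc_dec (n : ℕ) (hn : n < 1024) : enc (dec n) = n :=
  Nat.eq_of_beq_eq_true ((allB_iff _ _).1 chk_enc n hn)

theorem dec_inj {m n : ℕ} (hm : m < 1024) (hn : n < 1024) (h : dec m = dec n) : m = n := by
  rw [← enc_dec m hm, ← enc_dec n hn, h]

/-- The inverse on codes. -/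
def ci (n : ℕ) : ℕ := enc (Raw.inv (dec n))

private noncomputable def _root_.Cfsg.Agent.LsF.fd5b535_8 : {f // @Cfsg.Agent.SylowU5.Model.Raw.inv = f} := ⟨_, by first | (delta Cfsg.Agent.SylowU5.Model.Raw.inv; rewrite [(show (HAdd.hAdd : Cfsg.Agent.Lib.FieldFour.F4 → Cfsg.Agent.Lib.FieldFour.F4 → Cfsg.Agent.Lib.FieldFour.F4) = Cfsg.Agent.Lib.FieldFour.F4.add from rfl), (show (HMul.hMul : Cfsg.Agent.Lib.FieldFour.F4 → Cfsg.Agent.Lib.FieldFour.F4 → Cfsg.Agent.Lib.FieldFour.F4) = Cfsg.Agent.Lib.FieldFour.F4.mul from rfl), Cfsg.Agent.LsF.fd5b535_2.2, Cfsg.Agent.LsF.fd5b535_3.2, Cfsg.Agent.LsF.fd5b535_4.2]; exact rfl) | exact rfl⟩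
private noncomputable def _root_.Cfsg.Agent.LsF.fd5b535_9 : {f // @Cfsg.Agent.SylowU5.Model.ci = f} := ⟨_, by first | (delta Cfsg.Agent.SylowU5.Model.ci; rewrite [Cfsg.Agent.LsF.fd5b535_5.2, Cfsg.Agent.LsF.fd5b535_8.2, Cfsg.Agent.LsF.fd5b535_7.2]; exact rfl) | exact rfl⟩
theorem chk_ci : allB (fun n => Nat.ble (ci n) 1023 && Nat.beq (cm (ci n) n) 0) 1024 = true := by
  ((try (rewrite [Cfsg.Agent.LsF.fd5b535_0.2, Cfsg.Agent.LsF.fd5b535_9.2, Cfsg.Agent.LsF.and_eq])); decide +kernel)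

theorem ci_lt (n : ℕ) (hn : n < 1024) : ci n < 1024 := by
  have h := (allB_iff _ _).1 chk_ci n hn
  rw [Bool.and_eq_true] at h
  have := Nat.le_of_ble_eq_true h.1
  omega

theorem ci_cm (n : ℕ) (hn : n < 1024) : cm (ci n) n = 0 := by
  have h := (allB_iff _ _).1 chk_ci n hn
  rw [Bool.and_eq_true] at h
  exact Nat.eq_of_beq_eq_true h.2

/-- The group of order 1024. -/
@[ext] structure M0 where
  /-- the code -/
  n : ℕ
  lt : n < 1024
  deriving DecidableEq

namespace M0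

instance : Mul M0 := ⟨fun x y => ⟨cm x.n y.n, cm_lt x.lt y.lt⟩⟩
instance : One M0 := ⟨⟨0, by norm_num⟩⟩
instance : Inv M0 := ⟨fun x => ⟨ci x.n, ci_lt x.n x.lt⟩⟩

theorem mul_n (x y : M0) : (x * y).n = cm x.n y.n := rfl
theorem one_n : (1 : M0).n = 0 := rfl
theorem dec_mul (x y : M0) : dec (x * y).n = dec x.n * dec y.n := dec_cm _ _ x.lt y.lt

theorem dec_one : dec (1 : M0).n = 1 := by decide

theorem dec_injective {x y : M0} (h : dec x.n = dec y.n) : x = y :=
  M0.ext (dec_inj x.lt y.lt h)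

instance : Group M0 where
  mul_assoc x y z := by
    apply dec_injective
    rw [dec_mul, dec_mul, dec_mul, dec_mul, mul_assoc]
  one_mul x := by
    apply dec_injective
    rw [dec_mul, dec_one, one_mul]
  mul_one x := by
    apply dec_injective
    rw [dec_mul, dec_one, mul_one]
  inv_mul_cancel x := M0.ext (ci_cm x.n x.lt)

/-- `M0` has 1024 elements. -/
def equivFin : M0 ≃ Fin 1024 where
  toFun x := ⟨x.n, x.lt⟩
  invFun i := ⟨i.1, i.2⟩
  left_inv _ := rfl
  right_inv _ := rfl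

instance : Finite M0 := Finite.of_equiv _ equivFin.symm

theorem card : Nat.card M0 = 1024 := by
  rw [Nat.card_congr equivFin, Nat.card_fin]

end M0

end Cfsg.Agent.SylowU5.Model
end

private theorem dce_37aa9ede5b9c : _root_.True := by
  try have : _root_.True := by simp only [_root_.Cfsg.Agent.SylowU5.Model.Raw.mul.eq_1]
  try have : _root_.True := by simp only [_root_.Cfsg.Agent.SylowU5.Model.beqR.eq_1]
  try have : _root_.True := by simp only [_root_.Cfsg.Agent.SylowU5.Model.shiftL.eq_1]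
  try have : _root_.True := by simp only [_root_.Cfsg.Agent.SylowU5.Model.allB.eq_1]
  try have : _root_.True := by simp only [_root_.Cfsg.Agent.SylowU5.Model.Raw.inv.eq_1]
  try have : _root_.True := by simp only [_root_.Cfsg.Agent.SylowU5.Model.shift.eq_1]
  exact _root_.True.intro
end

-- part: SylowU5/Checks
section
set_option linter.all false
open scoped Cfsg.Agent.FastGrp

/-!
Kernel-checked facts on the codes of the group `M0` of order 1024.
-/

set_option autoImplicit false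
set_option maxRecDepth 100000

namespace Cfsg.Agent.SylowU5.Model

/-- Boolean implication, evaluated lazily. -/
def imp (a b : Bool) : Bool := bif a then b else true

theorem imp_iff (a b : Bool) : imp a b = true ↔ (a = true → b = true) := by
  cases a <;> simp [imp]

/-- Boolean existence. -/
def exB (f : ℕ → Bool) (n : ℕ) : Bool := Nat.rec false (fun n ih => or (f n) ih) n

theorem exB_iff (f : ℕ → Bool) (n : ℕ) : exB f n = true ↔ ∃ m, m < n ∧ f m = true := by
  induction n with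
  | zero => simp [exB]
  | succ n ih =>
    have : exB f (n + 1) = or (f n) (exB f n) := rfl
    rw [this, Bool.or_eq_true, ih]
    constructor
    · rintro (h | ⟨m, hm, h⟩)
      · exact ⟨n, Nat.lt_succ_self n, h⟩
      · exact ⟨m, Nat.lt_succ_of_lt hm, h⟩
    · rintro ⟨m, hm, h⟩
      rcases Nat.lt_succ_iff_lt_or_eq.1 hm with h' | h'
      · exact Or.inr ⟨m, h', h⟩
      · left; rw [← h']; exact h

/-- Counting. -/
def countB (f : ℕ → Bool) (n : ℕ) : ℕ := Nat.rec 0 (fun n ih => bif f n then Nat.succ ih else ih) n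

/-- Codes of `E`. -/
def fE (n : ℕ) : Bool := Nat.ble n 15
/-- Codes of `V`. -/
def fV (n : ℕ) : Bool := Nat.ble n 255
/-- Codes of `Q`. -/
def fQ (n : ℕ) : Bool := Nat.beq (Nat.land n 200) 0
/-- The five transvections. -/
def dN (i : ℕ) : ℕ := Nat.land (Nat.shiftRight 0xFDB81 (Nat.mul 4 i)) 15
/-- The masks of the five lines. -/
def lm (i : ℕ) : ℕ :=
  bif Nat.beq i 0 then 0xF else bif Nat.beq i 1 then 0x1111 else bif Nat.beq i 2 then 0x8421 else
  bif Nat.beq i 3 then 0x2841 else 0x4281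
/-- Codes of the five subgroups of order 64. -/
def fL (i n : ℕ) : Bool :=
  fV n && Nat.beq (Nat.land (Nat.shiftRight (lm i) (Nat.shiftRight n 4)) 1) 1
/-- Involutions outside `E` (and `1` is not one). -/
def fU (n : ℕ) : Bool := (!(fE n)) && Nat.beq (cm n n) 0
/-- Commuting. -/
def com (x y : ℕ) : Bool := Nat.beq (cm x y) (cm y x)
/-- Commuting modulo `z`. -/
def comz (x y : ℕ) : Bool := com x y || Nat.beq (cm x y) (cm (cm y x) 1)

theorem c_mulE : allB (fun m => allB (fun n => fE (cm m n)) 16) 16 = true := by decide +kernel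
private noncomputable def _root_.Cfsg.Agent.KO1d0cf25.k0 : (by first | exact type_of% @Cfsg.Agent.SylowU5.Model.allB | exact Unit : Sort _) := by first | (refine @Subtype.val _ (fun g => @Cfsg.Agent.SylowU5.Model.allB = @g) (@Subtype.mk _ _ (@(fun x0 x1 => @Nat.rec.{1} @(fun x2 => @Bool) @Bool.true @(fun x2 x3 => @Bool.rec.{1} @(fun x4 => @Bool) @Bool.false @x3 (@x0 @x2)) @x1)) ?_); rfl') | exact @Cfsg.Agent.SylowU5.Model.allB | exact ()
private theorem _root_.Cfsg.Agent.KO1d0cf25.e0 : (by first | exact @Cfsg.Agent.SylowU5.Model.allB = @_root_.Cfsg.Agent.KO1d0cf25.k0 | exact True : Prop) := by first | (delta _root_.Cfsg.Agent.KO1d0cf25.k0; exact @Subtype.property _ (fun g => @Cfsg.Agent.SylowU5.Model.allB = @g) _) | rfl | trivial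
private noncomputable def _root_.Cfsg.Agent.KO1d0cf25.k1 : (by first | exact type_of% @Cfsg.Agent.SylowU5.Model.fV | exact Unit : Sort _) := by first | (refine @Subtype.val _ (fun g => @Cfsg.Agent.SylowU5.Model.fV = @g) (@Subtype.mk _ _ (@(fun x0 => @Nat.ble @x0 (nat_lit 255))) ?_); rfl') | exact @Cfsg.Agent.SylowU5.Model.fV | exact ()
private theorem _root_.Cfsg.Agent.KO1d0cf25.e1 : (by first | exact @Cfsg.Agent.SylowU5.Model.fV = @_root_.Cfsg.Agent.KO1d0cf25.k1 | exact True : Prop) := by first | (delta _root_.Cfsg.Agent.KO1d0cf25.k1; exact @Subtype.property _ (fun g => @Cfsg.Agent.SylowU5.Model.fV = @g) _) | rfl | trivial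
private noncomputable def _root_.Cfsg.Agent.KO1d0cf25.k2 : (by first | exact type_of% @Cfsg.Agent.SylowU5.Model.kap | exact Unit : Sort _) := by first | (refine @Subtype.val _ (fun g => @Cfsg.Agent.SylowU5.Model.kap = @g) (@Subtype.mk _ _ (@(fun x0 x1 => @Nat.land (@Nat.shiftRight @Cfsg.Agent.SylowU5.Model.TAB (@Nat.mul (nat_lit 6) (@Nat.add (@Nat.mul (nat_lit 128) (@Nat.shiftRight @x0 (nat_lit 4))) (@Nat.land (@Nat.shiftRight @x1 (nat_lit 1)) (nat_lit 127))))) (nat_lit 63))) ?_); (try delta Cfsg.Agent.SylowU5.Model.kap); (try generalize @Cfsg.Agent.SylowU5.Model.TAB = g0); rfl') | exact @Cfsg.Agent.SylowU5.Model.kap | exact ()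
private theorem _root_.Cfsg.Agent.KO1d0cf25.e2 : (by first | exact @Cfsg.Agent.SylowU5.Model.kap = @_root_.Cfsg.Agent.KO1d0cf25.k2 | exact True : Prop) := by first | (delta _root_.Cfsg.Agent.KO1d0cf25.k2; exact @Subtype.property _ (fun g => @Cfsg.Agent.SylowU5.Model.kap = @g) _) | rfl | trivial
private noncomputable def _root_.Cfsg.Agent.KO1d0cf25.k3 : (by first | exact type_of% @Cfsg.Agent.SylowU5.Model.cm | exact Unit : Sort _) := by first | (refine @Subtype.val _ (fun g => @Cfsg.Agent.SylowU5.Model.cm = @g) (@Subtype.mk _ _ (@(fun x0 x1 => @Nat.xor (@Nat.xor @x0 @x1) (@Cfsg.Agent.KO1d0cf25.k2 @x0 @x1))) ?_); rewrite [← Cfsg.Agent.KO1d0cf25.e2]; (try delta Cfsg.Agent.SylowU5.Model.cm); (try generalize @Cfsg.Agent.SylowU5.Model.kap = g0); rfl') | exact @Cfsg.Agent.SylowU5.Model.cm | exact ()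
private theorem _root_.Cfsg.Agent.KO1d0cf25.e3 : (by first | exact @Cfsg.Agent.SylowU5.Model.cm = @_root_.Cfsg.Agent.KO1d0cf25.k3 | exact True : Prop) := by first | (delta _root_.Cfsg.Agent.KO1d0cf25.k3; exact @Subtype.property _ (fun g => @Cfsg.Agent.SylowU5.Model.cm = @g) _) | rfl | trivial

theorem c_mulV : allB (fun m => allB (fun n => fV (cm m n)) 256) 256 = true := by (first | (rewrite [Cfsg.Agent.KO1d0cf25.e0, Cfsg.Agent.KO1d0cf25.e1, Cfsg.Agent.KO1d0cf25.e3]; decide +kernel) | decide +kernel)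
private noncomputable def _root_.Cfsg.Agent.KO1d0cf25.k4 : (by first | exact type_of% @Cfsg.Agent.SylowU5.Model.imp | exact Unit : Sort _) := by first | (refine @Subtype.val _ (fun g => @Cfsg.Agent.SylowU5.Model.imp = @g) (@Subtype.mk _ _ (@(fun x0 x1 => @Bool.rec.{1} @(fun x2 => @Bool) @Bool.true @x1 @x0)) ?_); rfl') | exact @Cfsg.Agent.SylowU5.Model.imp | exact ()
private theorem _root_.Cfsg.Agent.KO1d0cf25.e4 : (by first | exact @Cfsg.Agent.SylowU5.Model.imp = @_root_.Cfsg.Agent.KO1d0cf25.k4 | exact True : Prop) := by first | (delta _root_.Cfsg.Agent.KO1d0cf25.k4; exact @Subtype.property _ (fun g => @Cfsg.Agent.SylowU5.Model.imp = @g) _) | rfl | trivial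
private noncomputable def _root_.Cfsg.Agent.KO1d0cf25.k5 : (by first | exact type_of% @Cfsg.Agent.SylowU5.Model.fQ | exact Unit : Sort _) := by first | (refine @Subtype.val _ (fun g => @Cfsg.Agent.SylowU5.Model.fQ = @g) (@Subtype.mk _ _ (@(fun x0 => @Nat.beq (@Nat.land @x0 (nat_lit 200)) (nat_lit 0))) ?_); rfl') | exact @Cfsg.Agent.SylowU5.Model.fQ | exact ()
private theorem _root_.Cfsg.Agent.KO1d0cf25.e5 : (by first | exact @Cfsg.Agent.SylowU5.Model.fQ = @_root_.Cfsg.Agent.KO1d0cf25.k5 | exact True : Prop) := by first | (delta _root_.Cfsg.Agent.KO1d0cf25.k5; exact @Subtype.property _ (fun g => @Cfsg.Agent.SylowU5.Model.fQ = @g) _) | rfl | trivial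

theorem c_mulQ : allB (fun m => imp (fQ m) (allB (fun n => imp (fQ n) (fQ (cm m n))) 1024)) 1024 =
    true := by (first | (rewrite [Cfsg.Agent.KO1d0cf25.e0, Cfsg.Agent.KO1d0cf25.e4, Cfsg.Agent.KO1d0cf25.e5, Cfsg.Agent.KO1d0cf25.e3]; decide +kernel) | decide +kernel)
private noncomputable def _root_.Cfsg.Agent.KO1d0cf25.k6 : (by first | exact type_of% @Cfsg.Agent.SylowU5.Model.lm | exact Unit : Sort _) := by first | (refine @Subtype.val _ (fun g => @Cfsg.Agent.SylowU5.Model.lm = @g) (@Subtype.mk _ _ (@(fun x0 => @Bool.rec.{1} @(fun x1 => ℕ) (@Bool.rec.{1} @(fun x1 => ℕ) (@Bool.rec.{1} @(fun x1 => ℕ) (@Bool.rec.{1} @(fun x1 => ℕ) (nat_lit 17025) (nat_lit 10305) (@Nat.beq @x0 (nat_lit 3))) (nat_lit 33825) (@Nat.beq @x0 (nat_lit 2))) (nat_lit 4369) (@Nat.beq @x0 (nat_lit 1))) (nat_lit 15) (@Nat.beq @x0 (nat_lit 0)))) ?_); rfl') | exact @Cfsg.Agent.SylowU5.Model.lm | exact ()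
private theorem _root_.Cfsg.Agent.KO1d0cf25.e6 : (by first | exact @Cfsg.Agent.SylowU5.Model.lm = @_root_.Cfsg.Agent.KO1d0cf25.k6 | exact True : Prop) := by first | (delta _root_.Cfsg.Agent.KO1d0cf25.k6; exact @Subtype.property _ (fun g => @Cfsg.Agent.SylowU5.Model.lm = @g) _) | rfl | trivial
private noncomputable def _root_.Cfsg.Agent.KO1d0cf25.k7 : (by first | exact type_of% @Cfsg.Agent.SylowU5.Model.fL | exact Unit : Sort _) := by first | (refine @Subtype.val _ (fun g => @Cfsg.Agent.SylowU5.Model.fL = @g) (@Subtype.mk _ _ (@(fun x0 x1 => @Bool.rec.{1} @(fun x2 => @Bool) @Bool.false (@Nat.beq (@Nat.land (@Nat.shiftRight (@Cfsg.Agent.KO1d0cf25.k6 @x0) (@Nat.shiftRight @x1 (nat_lit 4))) (nat_lit 1)) (nat_lit 1)) (@Nat.ble @x1 (nat_lit 255)))) ?_); rewrite [← Cfsg.Agent.KO1d0cf25.e6]; (try delta Cfsg.Agent.SylowU5.Model.fL Cfsg.Agent.SylowU5.Model.fV); (try generalize @Cfsg.Agent.SylowU5.Model.lm = g0); rfl') | exact @Cfsg.Agent.SylowU5.Model.fL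 | exact ()
private theorem _root_.Cfsg.Agent.KO1d0cf25.e7 : (by first | exact @Cfsg.Agent.SylowU5.Model.fL = @_root_.Cfsg.Agent.KO1d0cf25.k7 | exact True : Prop) := by first | (delta _root_.Cfsg.Agent.KO1d0cf25.k7; exact @Subtype.property _ (fun g => @Cfsg.Agent.SylowU5.Model.fL = @g) _) | rfl | trivial

theorem c_mulL : allB (fun i => allB (fun m => imp (fL i m) (allB (fun n => imp (fL i n)
    (fL i (cm m n))) 256)) 256) 5 = true := by (first | (rewrite [Cfsg.Agent.KO1d0cf25.e0, Cfsg.Agent.KO1d0cf25.e4, Cfsg.Agent.KO1d0cf25.e7, Cfsg.Agent.KO1d0cf25.e3]; decide +kernel) | decide +kernel)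
theorem c_invE : allB (fun m => fE (ci m)) 16 = true := by decide +kernel
theorem c_invV : allB (fun m => fV (ci m)) 256 = true := by decide +kernel
theorem c_invQ : allB (fun m => imp (fQ m) (fQ (ci m))) 1024 = true := by decide +kernel
theorem c_invL : allB (fun i => allB (fun m => imp (fL i m) (fL i (ci m))) 256) 5 = true := by
  decide +kernel
theorem c_cardQ : countB fQ 1024 = 128 := by decide +kernel
private noncomputable def _root_.Cfsg.Agent.KO1d0cf25.k17 : (by first | exact type_of% @Cfsg.Agent.SylowU5.Model.countB | exact Unit : Sort _) := by first | (refine @Subtype.val _ (fun g => @Cfsg.Agent.SylowU5.Model.countB = @g) (@Subtype.mk _ _ (@(fun x0 x1 => @Nat.rec.{1} @(fun x2 => ℕ) (nat_lit 0) @(fun x2 x3 => @Bool.rec.{1} @(fun x4 => ℕ) @x3 (@Nat.succ @x3) (@x0 @x2)) @x1)) ?_); rfl') | exact @Cfsg.Agent.SylowU5.Model.countB | exact ()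
private theorem _root_.Cfsg.Agent.KO1d0cf25.e17 : (by first | exact @Cfsg.Agent.SylowU5.Model.countB = @_root_.Cfsg.Agent.KO1d0cf25.k17 | exact True : Prop) := by first | (delta _root_.Cfsg.Agent.KO1d0cf25.k17; exact @Subtype.property _ (fun g => @Cfsg.Agent.SylowU5.Model.countB = @g) _) | rfl | trivial

theorem c_cardL : allB (fun i => Nat.beq (countB (fL i) 1024) 64) 5 = true := by (first | (rewrite [Cfsg.Agent.KO1d0cf25.e0, Cfsg.Agent.KO1d0cf25.e17, Cfsg.Agent.KO1d0cf25.e7]; decide +kernel) | decide +kernel)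
theorem c_cardI : countB (fun n => fQ n && Nat.beq (cm n n) 0) 1024 = 56 := by decide +kernel

theorem c_z_comm : allB (fun g => com g 1) 1024 = true := by decide +kernel
theorem c_center : allB (fun x => imp (com 256 x && (com 512 x && com 64 x)) (Nat.ble x 1)) 1024 =
    true := by decide +kernel
theorem c_center2 : allB (fun x => imp (comz 256 x && comz 64 x) (Nat.ble x 7)) 1024 =
    true := by decide +kernel
theorem c_Ecases : allB (fun x => Nat.beq x 0 || (exB (fun i => Nat.beq x (dN i)) 5 ||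
    exB (fun i => exB (fun j => (!(Nat.beq i j)) && Nat.beq x (cm (dN i) (dN j))) 5) 5)) 16 =
    true := by decide +kernel
theorem c_Esq : allB (fun x => Nat.beq (cm x x) 0) 16 = true := by decide +kernel
private noncomputable def _root_.Cfsg.Agent.KO1d0cf25.k19 : (by first | exact type_of% @Cfsg.Agent.SylowU5.Model.com | exact Unit : Sort _) := by first | (refine @Subtype.val _ (fun g => @Cfsg.Agent.SylowU5.Model.com = @g) (@Subtype.mk _ _ (@(fun x0 x1 => @Nat.beq (@Cfsg.Agent.KO1d0cf25.k3 @x0 @x1) (@Cfsg.Agent.KO1d0cf25.k3 @x1 @x0))) ?_); rewrite [← Cfsg.Agent.KO1d0cf25.e3]; (try delta Cfsg.Agent.SylowU5.Model.com); (try generalize @Cfsg.Agent.SylowU5.Model.cm = g0); rfl') | exact @Cfsg.Agent.SylowU5.Model.com | exact ()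
private theorem _root_.Cfsg.Agent.KO1d0cf25.e19 : (by first | exact @Cfsg.Agent.SylowU5.Model.com = @_root_.Cfsg.Agent.KO1d0cf25.k19 | exact True : Prop) := by first | (delta _root_.Cfsg.Agent.KO1d0cf25.k19; exact @Subtype.property _ (fun g => @Cfsg.Agent.SylowU5.Model.com = @g) _) | rfl | trivial

theorem c_centVE : allB (fun g => allB (fun x => com g x) 16) 256 = true := by (first | (rewrite [Cfsg.Agent.KO1d0cf25.e0, Cfsg.Agent.KO1d0cf25.e19]; decide +kernel) | decide +kernel)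
private noncomputable def _root_.Cfsg.Agent.KO1d0cf25.k21 : (by first | exact type_of% @Cfsg.Agent.SylowU5.Model.dN | exact Unit : Sort _) := by first | (refine @Subtype.val _ (fun g => @Cfsg.Agent.SylowU5.Model.dN = @g) (@Subtype.mk _ _ (@(fun x0 => @Nat.land (@Nat.shiftRight (nat_lit 1039233) (@Nat.mul (nat_lit 4) @x0)) (nat_lit 15))) ?_); rfl') | exact @Cfsg.Agent.SylowU5.Model.dN | exact ()
private theorem _root_.Cfsg.Agent.KO1d0cf25.e21 : (by first | exact @Cfsg.Agent.SylowU5.Model.dN = @_root_.Cfsg.Agent.KO1d0cf25.k21 | exact True : Prop) := by first | (delta _root_.Cfsg.Agent.KO1d0cf25.k21; exact @Subtype.property _ (fun g => @Cfsg.Agent.SylowU5.Model.dN = @g) _) | rfl | trivial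

theorem c_cent_d : allB (fun g => allB (fun j => imp (com g (dN (Nat.succ j))) (fV g)) 4) 1024 =
    true := by (first | (rewrite [Cfsg.Agent.KO1d0cf25.e0, Cfsg.Agent.KO1d0cf25.e4, Cfsg.Agent.KO1d0cf25.e19, Cfsg.Agent.KO1d0cf25.e21, Cfsg.Agent.KO1d0cf25.e1]; decide +kernel) | decide +kernel)
private noncomputable def _root_.Cfsg.Agent.KO1d0cf25.k22 : (by first | exact type_of% @Cfsg.Agent.SylowU5.Model.exB | exact Unit : Sort _) := by first | (refine @Subtype.val _ (fun g => @Cfsg.Agent.SylowU5.Model.exB = @g) (@Subtype.mk _ _ (@(fun x0 x1 => @Nat.rec.{1} @(fun x2 => @Bool) @Bool.false @(fun x2 x3 => @Bool.rec.{1} @(fun x4 => @Bool) @x3 @Bool.true (@x0 @x2)) @x1)) ?_); rfl') | exact @Cfsg.Agent.SylowU5.Model.exB | exact ()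
private theorem _root_.Cfsg.Agent.KO1d0cf25.e22 : (by first | exact @Cfsg.Agent.SylowU5.Model.exB = @_root_.Cfsg.Agent.KO1d0cf25.k22 | exact True : Prop) := by first | (delta _root_.Cfsg.Agent.KO1d0cf25.k22; exact @Subtype.property _ (fun g => @Cfsg.Agent.SylowU5.Model.exB = @g) _) | rfl | trivial

theorem c_conj_d : allB (fun g => allB (fun i => exB (fun j =>
    Nat.beq (cm g (dN i)) (cm (dN j) g)) 5) 5) 1024 = true := by (first | (rewrite [Cfsg.Agent.KO1d0cf25.e0, Cfsg.Agent.KO1d0cf25.e22, Cfsg.Agent.KO1d0cf25.e3, Cfsg.Agent.KO1d0cf25.e21]; decide +kernel) | decide +kernel)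
theorem c_conj_tr : allB (fun j => Nat.beq (cm (Nat.mul 256 j) (dN 1))
    (cm (dN (Nat.succ j)) (Nat.mul 256 j))) 4 = true := by decide +kernel
theorem c_sqV : allB (fun g => fV (cm g g)) 1024 = true := by decide +kernel
theorem c_Vinv : allB (fun x => imp (Nat.beq (cm x x) 0) (fE x)) 256 = true := by decide +kernel
theorem c_Vsq : allB (fun x => imp (!(fE x)) (exB (fun i => Nat.beq (cm x x) (dN i)) 5)) 256 =
    true := by decide +kernel
theorem c_Vsqex : allB (fun i => exB (fun x => Nat.beq (cm x x) (dN i)) 256) 5 =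
    true := by decide +kernel
private noncomputable def _root_.Cfsg.Agent.KO1d0cf25.k23 : type_of% @Bool.not := @(fun x0 => @Bool.rec.{1} @(fun x1 => @Bool) @Bool.true @Bool.false @x0)
private theorem _root_.Cfsg.Agent.KO1d0cf25.e23 : @Bool.not = @_root_.Cfsg.Agent.KO1d0cf25.k23 := by delta _root_.Cfsg.Agent.KO1d0cf25.k23; rfl'
private noncomputable def _root_.Cfsg.Agent.KO1d0cf25.k24 : (by first | exact type_of% @Cfsg.Agent.SylowU5.Model.fE | exact Unit : Sort _) := by first | (refine @Subtype.val _ (fun g => @Cfsg.Agent.SylowU5.Model.fE = @g) (@Subtype.mk _ _ (@(fun x0 => @Nat.ble @x0 (nat_lit 15))) ?_); rfl') | exact @Cfsg.Agent.SylowU5.Model.fE | exact ()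
private theorem _root_.Cfsg.Agent.KO1d0cf25.e24 : (by first | exact @Cfsg.Agent.SylowU5.Model.fE = @_root_.Cfsg.Agent.KO1d0cf25.k24 | exact True : Prop) := by first | (delta _root_.Cfsg.Agent.KO1d0cf25.k24; exact @Subtype.property _ (fun g => @Cfsg.Agent.SylowU5.Model.fE = @g) _) | rfl | trivial
private noncomputable def _root_.Cfsg.Agent.KO1d0cf25.k25 : type_of% @Bool.or := @(fun x0 x1 => @Bool.rec.{1} @(fun x2 => @Bool) @x1 @Bool.true @x0)
private theorem _root_.Cfsg.Agent.KO1d0cf25.e25 : @Bool.or = @_root_.Cfsg.Agent.KO1d0cf25.k25 := by delta _root_.Cfsg.Agent.KO1d0cf25.k25; rfl'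

theorem c_centV : allB (fun v => imp (!(fE v)) (allB (fun x => imp (com x v)
    (fE x || fE (cm x v))) 256)) 256 = true := by (first | (rewrite [Cfsg.Agent.KO1d0cf25.e0, Cfsg.Agent.KO1d0cf25.e4, Cfsg.Agent.KO1d0cf25.e23, Cfsg.Agent.KO1d0cf25.e24, Cfsg.Agent.KO1d0cf25.e19, Cfsg.Agent.KO1d0cf25.e25, Cfsg.Agent.KO1d0cf25.e3]; decide +kernel) | decide +kernel)
theorem c_memL : allB (fun i => allB (fun x => (Nat.beq 1 1) &&
    (bif fL i x then (Nat.beq (cm x x) 0 || Nat.beq (cm x x) (dN i)) else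
      (!(Nat.beq (cm x x) 0 || Nat.beq (cm x x) (dN i))))) 256) 5 = true := by decide +kernel
theorem c_dQ : allB (fun i => !(fQ (dN (Nat.succ i)))) 4 = true := by decide +kernel
theorem c_ddQ : allB (fun i => allB (fun j => fQ (cm (dN (Nat.succ i)) (dN (Nat.succ j)))) 4) 4 =
    true := by decide +kernel
theorem c_Qsq : allB (fun x => imp (fQ x) (Nat.ble (cm x x) 1)) 1024 = true := by decide +kernel
private noncomputable def _root_.Cfsg.Agent.KO1d0cf25.k20 : (by first | exact type_of% @Cfsg.Agent.SylowU5.Model.comz | exact Unit : Sort _) := by first | (refine @Subtype.val _ (fun g => @Cfsg.Agent.SylowU5.Model.comz = @g) (@Subtype.mk _ _ (@(fun x0 x1 => @Bool.rec.{1} @(fun x2 => @Bool) (@Nat.beq (@Cfsg.Agent.KO1d0cf25.k3 @x0 @x1) (@Cfsg.Agent.KO1d0cf25.k3 (@Cfsg.Agent.KO1d0cf25.k3 @x1 @x0) (nat_lit 1))) @Bool.true (@Cfsg.Agent.KO1d0cf25.k19 @x0 @x1))) ?_); rewrite [← Cfsg.Agent.KO1d0cf25.e19, ← Cfsg.Agent.KO1d0cf25.e3]; (try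 delta Cfsg.Agent.SylowU5.Model.comz); (try generalize @Cfsg.Agent.SylowU5.Model.cm = g0); (try generalize @Cfsg.Agent.SylowU5.Model.com = g1); rfl') | exact @Cfsg.Agent.SylowU5.Model.comz | exact ()
private theorem _root_.Cfsg.Agent.KO1d0cf25.e20 : (by first | exact @Cfsg.Agent.SylowU5.Model.comz = @_root_.Cfsg.Agent.KO1d0cf25.k20 | exact True : Prop) := by first | (delta _root_.Cfsg.Agent.KO1d0cf25.k20; exact @Subtype.property _ (fun g => @Cfsg.Agent.SylowU5.Model.comz = @g) _) | rfl | trivial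

theorem c_Qcomm : allB (fun x => imp (fQ x) (allB (fun y => imp (fQ y) (comz x y)) 1024)) 1024 =
    true := by (first | (rewrite [Cfsg.Agent.KO1d0cf25.e0, Cfsg.Agent.KO1d0cf25.e4, Cfsg.Agent.KO1d0cf25.e5, Cfsg.Agent.KO1d0cf25.e20]; decide +kernel) | decide +kernel)
theorem c_Qcent : allB (fun g => imp (com g 2 && (com g 4 && (com g 16 && (com g 32 &&
    (com g 256 && com g 512))))) (Nat.ble g 1)) 1024 = true := by decide +kernel
private noncomputable def _root_.Cfsg.Agent.KO1d0cf25.k18 : type_of% @Bool.and := @(fun x0 x1 => @Bool.rec.{1} @(fun x2 => @Bool) @Bool.false @x1 @x0)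
private theorem _root_.Cfsg.Agent.KO1d0cf25.e18 : @Bool.and = @_root_.Cfsg.Agent.KO1d0cf25.k18 := by delta _root_.Cfsg.Agent.KO1d0cf25.k18; rfl'
private noncomputable def _root_.Cfsg.Agent.KO1d0cf25.k26 : (by first | exact type_of% @Cfsg.Agent.SylowU5.Model.fU | exact Unit : Sort _) := by first | (refine @Subtype.val _ (fun g => @Cfsg.Agent.SylowU5.Model.fU = @g) (@Subtype.mk _ _ (@(fun x0 => @Bool.rec.{1} @(fun x1 => @Bool) @Bool.false (@Nat.beq (@Cfsg.Agent.KO1d0cf25.k3 @x0 @x0) (nat_lit 0)) (@Bool.rec.{1} @(fun x1 => @Bool) @Bool.true @Bool.false (@Nat.ble @x0 (nat_lit 15))))) ?_); rewrite [← Cfsg.Agent.KO1d0cf25.e3]; (try delta Cfsg.Agent.SylowU5.Model.fU Cfsg.Agent.SylowU5.Model.fE); (try generalize @Cfsg.Agent.SylowU5.Model.cm = g0); rfl') | exact @Cfsg.Agent.SylowU5.Model.fU | exact ()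
private theorem _root_.Cfsg.Agent.KO1d0cf25.e26 : (by first | exact @Cfsg.Agent.SylowU5.Model.fU = @_root_.Cfsg.Agent.KO1d0cf25.k26 | exact True : Prop) := by first | (delta _root_.Cfsg.Agent.KO1d0cf25.k26; exact @Subtype.property _ (fun g => @Cfsg.Agent.SylowU5.Model.fU = @g) _) | rfl | trivial

theorem c_Qgen : allB (fun x => imp (fQ x) (exB (fun a => (fU a && fQ a) && (fU (cm a x) &&
    fQ (cm a x))) 1024)) 1024 = true := by (first | (rewrite [Cfsg.Agent.KO1d0cf25.e0, Cfsg.Agent.KO1d0cf25.e4, Cfsg.Agent.KO1d0cf25.e5, Cfsg.Agent.KO1d0cf25.e22, Cfsg.Agent.KO1d0cf25.e18, Cfsg.Agent.KO1d0cf25.e26, Cfsg.Agent.KO1d0cf25.e3]; decide +kernel) | decide +kernel)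
theorem c_TmodQ : allB (fun g => imp (!(fQ g)) (fQ (cm g (dN 1)) || fQ (cm (cm g g) (dN 1)))) 1024 =
    true := by decide +kernel
theorem c_invol : allB (fun x => imp (Nat.beq (cm x x) 0) (fE x || fQ x)) 1024 =
    true := by decide +kernel
theorem c_zsq : allB (fun u => imp (fU u) (exB (fun v => fQ v && (com v u &&
    Nat.beq (cm v v) 1)) 1024)) 1024 = true := by (first | (rewrite [Cfsg.Agent.KO1d0cf25.e0, Cfsg.Agent.KO1d0cf25.e4, Cfsg.Agent.KO1d0cf25.e26, Cfsg.Agent.KO1d0cf25.e22, Cfsg.Agent.KO1d0cf25.e18, Cfsg.Agent.KO1d0cf25.e5, Cfsg.Agent.KO1d0cf25.e19, Cfsg.Agent.KO1d0cf25.e3]; decide +kernel) | decide +kernel)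
private noncomputable def _root_.Cfsg.Agent.KO1d0cf25.k8 : (by first | exact type_of% @Cfsg.Agent.SylowU5.Model.encN | exact Unit : Sort _) := by first | (refine @Subtype.val _ (fun g => @Cfsg.Agent.SylowU5.Model.encN = @g) (@Subtype.mk _ _ (@(fun x0 => @Cfsg.Agent.Lib.FieldFour.F4.rec.{1} @(fun x1 => ℕ) (nat_lit 0) (nat_lit 1) (nat_lit 2) (nat_lit 3) @x0)) ?_); rfl') | exact @Cfsg.Agent.SylowU5.Model.encN | exact ()
private theorem _root_.Cfsg.Agent.KO1d0cf25.e8 : (by first | exact @Cfsg.Agent.SylowU5.Model.encN = @_root_.Cfsg.Agent.KO1d0cf25.k8 | exact True : Prop) := by first | (delta _root_.Cfsg.Agent.KO1d0cf25.k8; exact @Subtype.property _ (fun g => @Cfsg.Agent.SylowU5.Model.encN = @g) _) | rfl | trivial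
private noncomputable def _root_.Cfsg.Agent.KO1d0cf25.k9 : (by first | exact type_of% @Cfsg.Agent.Lib.FieldFour.F4.add | exact Unit : Sort _) := by first | (refine @Subtype.val _ (fun g => @Cfsg.Agent.Lib.FieldFour.F4.add = @g) (@Subtype.mk _ _ (@(fun x0 x1 => @Cfsg.Agent.Lib.FieldFour.F4.rec.{1} @(fun x2 => @Cfsg.Agent.Lib.FieldFour.F4) @x1 (@Cfsg.Agent.Lib.FieldFour.F4.rec.{1} @(fun x2 => @Cfsg.Agent.Lib.FieldFour.F4) @Cfsg.Agent.Lib.FieldFour.F4.i @Cfsg.Agent.Lib.FieldFour.F4.o @Cfsg.Agent.Lib.FieldFour.F4.v @Cfsg.Agent.Lib.FieldFour.F4.w @x1) (@Cfsg.Agent.Lib.FieldFour.F4.rec.{1} @(fun x2 => @Cfsg.Agent.Lib.FieldFour.F4) @Cfsg.Agent.Lib.FieldFour.F4.w @Cfsg.Agent.Lib.FieldFour.F4.v @Cfsg.Agent.Lib.FieldFour.F4.o @Cfsg.Agent.Lib.FieldFour.F4.i @x1) (@Cfsg.Agent.Lib.FieldFour.F4.rec.{1} @(fun x2 => @Cfsg.Agent.Lib.FieldFour.F4) @Cfsg.Agent.Lib.FieldFour.F4.v @Cfsg.Agent.Lib.FieldFour.F4.w @Cfsg.Agent.Lib.FieldFour.F4.i @Cfsg.Agent.Lib.FieldFour.F4.o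 @x1) @x0)) ?_); rfl') | exact @Cfsg.Agent.Lib.FieldFour.F4.add | exact ()
private theorem _root_.Cfsg.Agent.KO1d0cf25.e9 : (by first | exact @Cfsg.Agent.Lib.FieldFour.F4.add = @_root_.Cfsg.Agent.KO1d0cf25.k9 | exact True : Prop) := by first | (delta _root_.Cfsg.Agent.KO1d0cf25.k9; exact @Subtype.property _ (fun g => @Cfsg.Agent.Lib.FieldFour.F4.add = @g) _) | rfl | trivial
private noncomputable def _root_.Cfsg.Agent.KO1d0cf25.k10 : (by first | exact type_of% @Cfsg.Agent.Lib.FieldFour.F4.mul | exact Unit : Sort _) := by first | (refine @Subtype.val _ (fun g => @Cfsg.Agent.Lib.FieldFour.F4.mul = @g) (@Subtype.mk _ _ (@(fun x0 x1 => @Cfsg.Agent.Lib.FieldFour.F4.rec.{1} @(fun x2 => @Cfsg.Agent.Lib.FieldFour.F4) @Cfsg.Agent.Lib.FieldFour.F4.o @x1 (@Cfsg.Agent.Lib.FieldFour.F4.rec.{1} @(fun x2 => @Cfsg.Agent.Lib.FieldFour.F4) @Cfsg.Agent.Lib.FieldFour.F4.o @Cfsg.Agent.Lib.FieldFour.F4.w @Cfsg.Agent.Lib.FieldFour.F4.v @Cfsg.Agent.Lib.FieldFour.F4.i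 @x1) (@Cfsg.Agent.Lib.FieldFour.F4.rec.{1} @(fun x2 => @Cfsg.Agent.Lib.FieldFour.F4) @Cfsg.Agent.Lib.FieldFour.F4.o @Cfsg.Agent.Lib.FieldFour.F4.v @Cfsg.Agent.Lib.FieldFour.F4.i @Cfsg.Agent.Lib.FieldFour.F4.w @x1) @x0)) ?_); rfl') | exact @Cfsg.Agent.Lib.FieldFour.F4.mul | exact ()
private theorem _root_.Cfsg.Agent.KO1d0cf25.e10 : (by first | exact @Cfsg.Agent.Lib.FieldFour.F4.mul = @_root_.Cfsg.Agent.KO1d0cf25.k10 | exact True : Prop) := by first | (delta _root_.Cfsg.Agent.KO1d0cf25.k10; exact @Subtype.property _ (fun g => @Cfsg.Agent.Lib.FieldFour.F4.mul = @g) _) | rfl | trivial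
private noncomputable def _root_.Cfsg.Agent.KO1d0cf25.k11 : (by first | exact type_of% @Cfsg.Agent.SylowU5.Model.enc | exact Unit : Sort _) := by first | (refine @Subtype.val _ (fun g => @Cfsg.Agent.SylowU5.Model.enc = @g) (@Subtype.mk _ _ (@(fun x0 => @Nat.xor (@Cfsg.Agent.KO1d0cf25.k8 (@Cfsg.Agent.KO1d0cf25.k9 (@Cfsg.Agent.SylowU5.Model.Raw.a @x0) (@Cfsg.Agent.KO1d0cf25.k10 @Cfsg.Agent.Lib.FieldFour.F4.w (@Cfsg.Agent.KO1d0cf25.k10 (@Cfsg.Agent.SylowU5.Model.Raw.p @x0) (@Cfsg.Agent.Lib.FieldFour.F4.rec.{1} @(fun x1 => @Cfsg.Agent.Lib.FieldFour.F4) @Cfsg.Agent.Lib.FieldFour.F4.o @Cfsg.Agent.Lib.FieldFour.F4.i @Cfsg.Agent.Lib.FieldFour.F4.v @Cfsg.Agent.Lib.FieldFour.F4.w (@Cfsg.Agent.SylowU5.Model.Raw.p @x0)))))) (@Nat.xor (@Nat.mul (nat_lit 2) (@Cfsg.Agent.KO1d0cf25.k8 (@Cfsg.Agent.Lib.FieldFour.F4.rec.{1} @(fun x1 => @Cfsg.Agent.Lib.FieldFour.F4) @Cfsg.Agent.Lib.FieldFour.F4.o @Cfsg.Agent.Lib.FieldFour.F4.i @Cfsg.Agent.Lib.FieldFour.F4.v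 @Cfsg.Agent.Lib.FieldFour.F4.w (@Cfsg.Agent.SylowU5.Model.Raw.c @x0)))) (@Nat.xor (@Nat.mul (nat_lit 8) (@Cfsg.Agent.KO1d0cf25.k8 (@Cfsg.Agent.KO1d0cf25.k9 (@Cfsg.Agent.SylowU5.Model.Raw.d @x0) (@Cfsg.Agent.KO1d0cf25.k10 @Cfsg.Agent.Lib.FieldFour.F4.w (@Cfsg.Agent.KO1d0cf25.k10 (@Cfsg.Agent.SylowU5.Model.Raw.q @x0) (@Cfsg.Agent.Lib.FieldFour.F4.rec.{1} @(fun x1 => @Cfsg.Agent.Lib.FieldFour.F4) @Cfsg.Agent.Lib.FieldFour.F4.o @Cfsg.Agent.Lib.FieldFour.F4.i @Cfsg.Agent.Lib.FieldFour.F4.v @Cfsg.Agent.Lib.FieldFour.F4.w (@Cfsg.Agent.SylowU5.Model.Raw.q @x0))))))) (@Nat.xor (@Nat.mul (nat_lit 16) (@Cfsg.Agent.KO1d0cf25.k8 (@Cfsg.Agent.SylowU5.Model.Raw.p @x0))) (@Nat.xor (@Nat.mul (nat_lit 64) (@Cfsg.Agent.KO1d0cf25.k8 (@Cfsg.Agent.SylowU5.Model.Raw.q @x0))) (@Nat.mul (nat_lit 256) (@Cfsg.Agent.KO1d0cf25.k8 (@Cfsg.Agent.SylowU5.Model.Raw.l @x0))))))))) ?_); rewrite [← Cfsg.Agent.KO1d0cf25.e10, ← Cfsg.Agent.KO1d0cf25.e9, ← Cfsg.Agent.KO1d0cf25.e8];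 (try delta Cfsg.Agent.SylowU5.Model.enc Cfsg.Agent.SylowU5.Model.cj); (try generalize @Cfsg.Agent.SylowU5.Model.encN = g0); (try generalize @Cfsg.Agent.Lib.FieldFour.F4.add = g1); (try generalize @Cfsg.Agent.Lib.FieldFour.F4.mul = g2); rfl') | exact @Cfsg.Agent.SylowU5.Model.enc | exact ()
private theorem _root_.Cfsg.Agent.KO1d0cf25.e11 : (by first | exact @Cfsg.Agent.SylowU5.Model.enc = @_root_.Cfsg.Agent.KO1d0cf25.k11 | exact True : Prop) := by first | (delta _root_.Cfsg.Agent.KO1d0cf25.k11; exact @Subtype.property _ (fun g => @Cfsg.Agent.SylowU5.Model.enc = @g) _) | rfl | trivial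
private noncomputable def _root_.Cfsg.Agent.KO1d0cf25.k13 : (by first | exact type_of% @Cfsg.Agent.SylowU5.Model.Raw.inv | exact Unit : Sort _) := by first | (refine @Subtype.val _ (fun g => @Cfsg.Agent.SylowU5.Model.Raw.inv = @g) (@Subtype.mk _ _ (@(fun x0 => @Cfsg.Agent.SylowU5.Model.Raw.mk (@Cfsg.Agent.SylowU5.Model.Raw.l @x0) (@Cfsg.Agent.KO1d0cf25.k9 (@Cfsg.Agent.SylowU5.Model.Raw.p @x0) (@Cfsg.Agent.KO1d0cf25.k10 (@Cfsg.Agent.SylowU5.Model.Raw.l @x0) (@Cfsg.Agent.SylowU5.Model.Raw.q @x0))) (@Cfsg.Agent.SylowU5.Model.Raw.q @x0) (@Cfsg.Agent.KO1d0cf25.k9 (@Cfsg.Agent.KO1d0cf25.k9 (@Cfsg.Agent.KO1d0cf25.k9 (@Cfsg.Agent.SylowU5.Model.Raw.a @x0) (@Cfsg.Agent.KO1d0cf25.k10 (@Cfsg.Agent.SylowU5.Model.Raw.p @x0) (@Cfsg.Agent.Lib.FieldFour.F4.rec.{1} @(fun x1 => @Cfsg.Agent.Lib.FieldFour.F4) @Cfsg.Agent.Lib.FieldFour.F4.o @Cfsg.Agent.Lib.FieldFour.F4.i @Cfsg.Agent.Lib.FieldFour.F4.v @Cfsg.Agent.Lib.FieldFour.F4.w (@Cfsg.Agent.SylowU5.Model.Raw.p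 @x0)))) (@Cfsg.Agent.KO1d0cf25.k10 (@Cfsg.Agent.SylowU5.Model.Raw.l @x0) (@Cfsg.Agent.KO1d0cf25.k9 (@Cfsg.Agent.SylowU5.Model.Raw.c @x0) (@Cfsg.Agent.KO1d0cf25.k10 (@Cfsg.Agent.SylowU5.Model.Raw.q @x0) (@Cfsg.Agent.Lib.FieldFour.F4.rec.{1} @(fun x1 => @Cfsg.Agent.Lib.FieldFour.F4) @Cfsg.Agent.Lib.FieldFour.F4.o @Cfsg.Agent.Lib.FieldFour.F4.i @Cfsg.Agent.Lib.FieldFour.F4.v @Cfsg.Agent.Lib.FieldFour.F4.w (@Cfsg.Agent.SylowU5.Model.Raw.p @x0)))))) (@Cfsg.Agent.KO1d0cf25.k10 (@Cfsg.Agent.Lib.FieldFour.F4.rec.{1} @(fun x1 => @Cfsg.Agent.Lib.FieldFour.F4) @Cfsg.Agent.Lib.FieldFour.F4.o @Cfsg.Agent.Lib.FieldFour.F4.i @Cfsg.Agent.Lib.FieldFour.F4.v @Cfsg.Agent.Lib.FieldFour.F4.w (@Cfsg.Agent.SylowU5.Model.Raw.l @x0)) (@Cfsg.Agent.KO1d0cf25.k9 (@Cfsg.Agent.KO1d0cf25.k9 (@Cfsg.Agent.SylowU5.Model.Raw.b @x0) (@Cfsg.Agent.KO1d0cf25.k10 (@Cfsg.Agent.SylowU5.Model.Raw.p @x0) (@Cfsg.Agent.Lib.FieldFour.F4.rec.{1} @(fun x1 => @Cfsg.Agent.Lib.FieldFour.F4)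 @Cfsg.Agent.Lib.FieldFour.F4.o @Cfsg.Agent.Lib.FieldFour.F4.i @Cfsg.Agent.Lib.FieldFour.F4.v @Cfsg.Agent.Lib.FieldFour.F4.w (@Cfsg.Agent.SylowU5.Model.Raw.q @x0)))) (@Cfsg.Agent.KO1d0cf25.k10 (@Cfsg.Agent.SylowU5.Model.Raw.l @x0) (@Cfsg.Agent.KO1d0cf25.k9 (@Cfsg.Agent.SylowU5.Model.Raw.d @x0) (@Cfsg.Agent.KO1d0cf25.k10 (@Cfsg.Agent.SylowU5.Model.Raw.q @x0) (@Cfsg.Agent.Lib.FieldFour.F4.rec.{1} @(fun x1 => @Cfsg.Agent.Lib.FieldFour.F4) @Cfsg.Agent.Lib.FieldFour.F4.o @Cfsg.Agent.Lib.FieldFour.F4.i @Cfsg.Agent.Lib.FieldFour.F4.v @Cfsg.Agent.Lib.FieldFour.F4.w (@Cfsg.Agent.SylowU5.Model.Raw.q @x0)))))))) (@Cfsg.Agent.KO1d0cf25.k9 (@Cfsg.Agent.KO1d0cf25.k9 (@Cfsg.Agent.SylowU5.Model.Raw.b @x0) (@Cfsg.Agent.KO1d0cf25.k10 (@Cfsg.Agent.SylowU5.Model.Raw.p @x0) (@Cfsg.Agent.Lib.FieldFour.F4.rec.{1} @(fun x1 => @Cfsg.Agent.Lib.FieldFour.F4) @Cfsg.Agent.Lib.FieldFour.F4.o @Cfsg.Agent.Lib.FieldFour.F4.i @Cfsg.Agent.Lib.FieldFour.F4.v @Cfsg.Agent.Lib.FieldFour.F4.w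 (@Cfsg.Agent.SylowU5.Model.Raw.q @x0)))) (@Cfsg.Agent.KO1d0cf25.k10 (@Cfsg.Agent.SylowU5.Model.Raw.l @x0) (@Cfsg.Agent.KO1d0cf25.k9 (@Cfsg.Agent.SylowU5.Model.Raw.d @x0) (@Cfsg.Agent.KO1d0cf25.k10 (@Cfsg.Agent.SylowU5.Model.Raw.q @x0) (@Cfsg.Agent.Lib.FieldFour.F4.rec.{1} @(fun x1 => @Cfsg.Agent.Lib.FieldFour.F4) @Cfsg.Agent.Lib.FieldFour.F4.o @Cfsg.Agent.Lib.FieldFour.F4.i @Cfsg.Agent.Lib.FieldFour.F4.v @Cfsg.Agent.Lib.FieldFour.F4.w (@Cfsg.Agent.SylowU5.Model.Raw.q @x0)))))) (@Cfsg.Agent.KO1d0cf25.k9 (@Cfsg.Agent.KO1d0cf25.k9 (@Cfsg.Agent.SylowU5.Model.Raw.c @x0) (@Cfsg.Agent.KO1d0cf25.k10 (@Cfsg.Agent.SylowU5.Model.Raw.q @x0) (@Cfsg.Agent.Lib.FieldFour.F4.rec.{1} @(fun x1 => @Cfsg.Agent.Lib.FieldFour.F4) @Cfsg.Agent.Lib.FieldFour.F4.o @Cfsg.Agent.Lib.FieldFour.F4.i @Cfsg.Agent.Lib.FieldFour.F4.v @Cfsg.Agent.Lib.FieldFour.F4.w (@Cfsg.Agent.SylowU5.Model.Raw.p @x0)))) (@Cfsg.Agent.KO1d0cf25.k10 (@Cfsg.Agent.Lib.FieldFour.F4.rec.{1}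 @(fun x1 => @Cfsg.Agent.Lib.FieldFour.F4) @Cfsg.Agent.Lib.FieldFour.F4.o @Cfsg.Agent.Lib.FieldFour.F4.i @Cfsg.Agent.Lib.FieldFour.F4.v @Cfsg.Agent.Lib.FieldFour.F4.w (@Cfsg.Agent.SylowU5.Model.Raw.l @x0)) (@Cfsg.Agent.KO1d0cf25.k9 (@Cfsg.Agent.SylowU5.Model.Raw.d @x0) (@Cfsg.Agent.KO1d0cf25.k10 (@Cfsg.Agent.SylowU5.Model.Raw.q @x0) (@Cfsg.Agent.Lib.FieldFour.F4.rec.{1} @(fun x1 => @Cfsg.Agent.Lib.FieldFour.F4) @Cfsg.Agent.Lib.FieldFour.F4.o @Cfsg.Agent.Lib.FieldFour.F4.i @Cfsg.Agent.Lib.FieldFour.F4.v @Cfsg.Agent.Lib.FieldFour.F4.w (@Cfsg.Agent.SylowU5.Model.Raw.q @x0)))))) (@Cfsg.Agent.KO1d0cf25.k9 (@Cfsg.Agent.SylowU5.Model.Raw.d @x0) (@Cfsg.Agent.KO1d0cf25.k10 (@Cfsg.Agent.SylowU5.Model.Raw.q @x0) (@Cfsg.Agent.Lib.FieldFour.F4.rec.{1} @(fun x1 => @Cfsg.Agent.Lib.FieldFour.F4) @Cfsg.Agent.Lib.FieldFour.F4.o @Cfsg.Agent.Lib.FieldFour.F4.i @Cfsg.Agent.Lib.FieldFour.F4.v @Cfsg.Agent.Lib.FieldFour.F4.w (@Cfsg.Agent.SylowU5.Model.Raw.q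 @x0)))))) ?_); rewrite [← Cfsg.Agent.KO1d0cf25.e10, ← Cfsg.Agent.KO1d0cf25.e9]; rfl') | exact @Cfsg.Agent.SylowU5.Model.Raw.inv | exact ()
private theorem _root_.Cfsg.Agent.KO1d0cf25.e13 : (by first | exact @Cfsg.Agent.SylowU5.Model.Raw.inv = @_root_.Cfsg.Agent.KO1d0cf25.k13 | exact True : Prop) := by first | (delta _root_.Cfsg.Agent.KO1d0cf25.k13; exact @Subtype.property _ (fun g => @Cfsg.Agent.SylowU5.Model.Raw.inv = @g) _) | rfl | trivial
private noncomputable def _root_.Cfsg.Agent.KO1d0cf25.k14 : (by first | exact type_of% @Cfsg.Agent.SylowU5.Model.ofN | exact Unit : Sort _) := by first | (refine @Subtype.val _ (fun g => @Cfsg.Agent.SylowU5.Model.ofN = @g) (@Subtype.mk _ _ (@(fun x0 => @Bool.rec.{1} @(fun x1 => @Cfsg.Agent.Lib.FieldFour.F4) (@Bool.rec.{1} @(fun x1 => @Cfsg.Agent.Lib.FieldFour.F4) (@Bool.rec.{1} @(fun x1 => @Cfsg.Agent.Lib.FieldFour.F4) @Cfsg.Agent.Lib.FieldFour.F4.v @Cfsg.Agent.Lib.FieldFour.F4.w (@Nat.beq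 @x0 (nat_lit 2))) @Cfsg.Agent.Lib.FieldFour.F4.i (@Nat.beq @x0 (nat_lit 1))) @Cfsg.Agent.Lib.FieldFour.F4.o (@Nat.beq @x0 (nat_lit 0)))) ?_); rfl') | exact @Cfsg.Agent.SylowU5.Model.ofN | exact ()
private theorem _root_.Cfsg.Agent.KO1d0cf25.e14 : (by first | exact @Cfsg.Agent.SylowU5.Model.ofN = @_root_.Cfsg.Agent.KO1d0cf25.k14 | exact True : Prop) := by first | (delta _root_.Cfsg.Agent.KO1d0cf25.k14; exact @Subtype.property _ (fun g => @Cfsg.Agent.SylowU5.Model.ofN = @g) _) | rfl | trivial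
private noncomputable def _root_.Cfsg.Agent.KO1d0cf25.k15 : (by first | exact type_of% @Cfsg.Agent.SylowU5.Model.dec | exact Unit : Sort _) := by first | (refine @Subtype.val _ (fun g => @Cfsg.Agent.SylowU5.Model.dec = @g) (@Subtype.mk _ _ (@(fun x0 => @Cfsg.Agent.SylowU5.Model.Raw.mk (@Cfsg.Agent.KO1d0cf25.k14 (@Nat.land (@Nat.shiftRight @x0 (nat_lit 8)) (nat_lit 3))) (@Cfsg.Agent.KO1d0cf25.k14 (@Nat.land (@Nat.shiftRight @x0 (nat_lit 4)) (nat_lit 3))) (@Cfsg.Agent.KO1d0cf25.k14 (@Nat.land (@Nat.shiftRight @x0 (nat_lit 6)) (nat_lit 3))) (@Cfsg.Agent.KO1d0cf25.k9 (@Cfsg.Agent.KO1d0cf25.k14 (@Nat.land @x0 (nat_lit 1))) (@Cfsg.Agent.KO1d0cf25.k10 @Cfsg.Agent.Lib.FieldFour.F4.w (@Cfsg.Agent.KO1d0cf25.k10 (@Cfsg.Agent.KO1d0cf25.k14 (@Nat.land (@Nat.shiftRight @x0 (nat_lit 4)) (nat_lit 3))) (@Cfsg.Agent.Lib.FieldFour.F4.rec.{1} @(fun x1 => @Cfsg.Agent.Lib.FieldFour.F4) @Cfsg.Agent.Lib.FieldFour.F4.o @Cfsg.Agent.Lib.FieldFour.F4.i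 @Cfsg.Agent.Lib.FieldFour.F4.v @Cfsg.Agent.Lib.FieldFour.F4.w (@Cfsg.Agent.KO1d0cf25.k14 (@Nat.land (@Nat.shiftRight @x0 (nat_lit 4)) (nat_lit 3))))))) (@Cfsg.Agent.KO1d0cf25.k9 (@Cfsg.Agent.KO1d0cf25.k14 (@Nat.land (@Nat.shiftRight @x0 (nat_lit 1)) (nat_lit 3))) (@Cfsg.Agent.KO1d0cf25.k10 (@Cfsg.Agent.KO1d0cf25.k14 (@Nat.land (@Nat.shiftRight @x0 (nat_lit 4)) (nat_lit 3))) (@Cfsg.Agent.Lib.FieldFour.F4.rec.{1} @(fun x1 => @Cfsg.Agent.Lib.FieldFour.F4) @Cfsg.Agent.Lib.FieldFour.F4.o @Cfsg.Agent.Lib.FieldFour.F4.i @Cfsg.Agent.Lib.FieldFour.F4.v @Cfsg.Agent.Lib.FieldFour.F4.w (@Cfsg.Agent.KO1d0cf25.k14 (@Nat.land (@Nat.shiftRight @x0 (nat_lit 6)) (nat_lit 3)))))) (@Cfsg.Agent.Lib.FieldFour.F4.rec.{1} @(fun x1 => @Cfsg.Agent.Lib.FieldFour.F4) @Cfsg.Agent.Lib.FieldFour.F4.o @Cfsg.Agent.Lib.FieldFour.F4.i @Cfsg.Agent.Lib.FieldFour.F4.v @Cfsg.Agent.Lib.FieldFour.F4.w (@Cfsg.Agent.KO1d0cf25.k14 (@Nat.land (@Nat.shiftRight @x0 (nat_lit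 1)) (nat_lit 3)))) (@Cfsg.Agent.KO1d0cf25.k9 (@Cfsg.Agent.KO1d0cf25.k14 (@Nat.land (@Nat.shiftRight @x0 (nat_lit 3)) (nat_lit 1))) (@Cfsg.Agent.KO1d0cf25.k10 @Cfsg.Agent.Lib.FieldFour.F4.w (@Cfsg.Agent.KO1d0cf25.k10 (@Cfsg.Agent.KO1d0cf25.k14 (@Nat.land (@Nat.shiftRight @x0 (nat_lit 6)) (nat_lit 3))) (@Cfsg.Agent.Lib.FieldFour.F4.rec.{1} @(fun x1 => @Cfsg.Agent.Lib.FieldFour.F4) @Cfsg.Agent.Lib.FieldFour.F4.o @Cfsg.Agent.Lib.FieldFour.F4.i @Cfsg.Agent.Lib.FieldFour.F4.v @Cfsg.Agent.Lib.FieldFour.F4.w (@Cfsg.Agent.KO1d0cf25.k14 (@Nat.land (@Nat.shiftRight @x0 (nat_lit 6)) (nat_lit 3))))))))) ?_); rewrite [← Cfsg.Agent.KO1d0cf25.e10, ← Cfsg.Agent.KO1d0cf25.e9, ← Cfsg.Agent.KO1d0cf25.e14]; (try delta Cfsg.Agent.SylowU5.Model.dec Cfsg.Agent.SylowU5.Model.cj); (try generalize @Cfsg.Agent.SylowU5.Model.ofN = g0); (try generalize @Cfsg.Agent.Lib.FieldFour.F4.add = g1); (try generalize @Cfsg.Agent.Lib.FieldFour.F4.mul = g2); rfl') |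 exact @Cfsg.Agent.SylowU5.Model.dec | exact ()
private theorem _root_.Cfsg.Agent.KO1d0cf25.e15 : (by first | exact @Cfsg.Agent.SylowU5.Model.dec = @_root_.Cfsg.Agent.KO1d0cf25.k15 | exact True : Prop) := by first | (delta _root_.Cfsg.Agent.KO1d0cf25.k15; exact @Subtype.property _ (fun g => @Cfsg.Agent.SylowU5.Model.dec = @g) _) | rfl | trivial
private noncomputable def _root_.Cfsg.Agent.KO1d0cf25.k16 : (by first | exact type_of% @Cfsg.Agent.SylowU5.Model.ci | exact Unit : Sort _) := by first | (refine @Subtype.val _ (fun g => @Cfsg.Agent.SylowU5.Model.ci = @g) (@Subtype.mk _ _ (@(fun x0 => @Cfsg.Agent.KO1d0cf25.k11 (@Cfsg.Agent.KO1d0cf25.k13 (@Cfsg.Agent.KO1d0cf25.k15 @x0)))) ?_); rewrite [← Cfsg.Agent.KO1d0cf25.e15, ← Cfsg.Agent.KO1d0cf25.e13, ← Cfsg.Agent.KO1d0cf25.e11]; (try delta Cfsg.Agent.SylowU5.Model.ci); (try generalize @Cfsg.Agent.SylowU5.Model.enc = g0); (try generalize @Cfsg.Agent.SylowU5.Model.Raw.inv = g1); (try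 generalize @Cfsg.Agent.SylowU5.Model.dec = g2); rfl') | exact @Cfsg.Agent.SylowU5.Model.ci | exact ()
private theorem _root_.Cfsg.Agent.KO1d0cf25.e16 : (by first | exact @Cfsg.Agent.SylowU5.Model.ci = @_root_.Cfsg.Agent.KO1d0cf25.k16 | exact True : Prop) := by first | (delta _root_.Cfsg.Agent.KO1d0cf25.k16; exact @Subtype.property _ (fun g => @Cfsg.Agent.SylowU5.Model.ci = @g) _) | rfl | trivial

theorem c_exu : allB (fun g => imp (!(fV g)) (exB (fun u => fQ u && (Nat.beq (cm u u) 0 &&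
    fV (cm u (ci g)))) 1024)) 1024 = true := by (first | (rewrite [Cfsg.Agent.KO1d0cf25.e0, Cfsg.Agent.KO1d0cf25.e4, Cfsg.Agent.KO1d0cf25.e23, Cfsg.Agent.KO1d0cf25.e1, Cfsg.Agent.KO1d0cf25.e22, Cfsg.Agent.KO1d0cf25.e18, Cfsg.Agent.KO1d0cf25.e5, Cfsg.Agent.KO1d0cf25.e3, Cfsg.Agent.KO1d0cf25.e16]; decide +kernel) | decide +kernel)

end Cfsg.Agent.SylowU5.Model

private theorem dce_07b9c2cafce0 : _root_.True := by
  try have : _root_.True := by simp only [_root_.Cfsg.Agent.SylowU5.Model.imp.eq_1]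
  try have : _root_.True := by simp only [_root_.Cfsg.Agent.SylowU5.Model.exB.eq_1]
  exact _root_.True.intro
end

-- part: SylowU5/Basic
section
set_option linter.all false

/-!
# Sylow 2-subgroups of type PSU(5,2): the list of facts (S0513)

`U5T T` lists the facts on a subgroup `T` of order 1024 which is isomorphic to a Sylow 2-subgroup of `PSU(5,2)`.
All of them were checked by computer on the explicit group.  `z = d 0`, `t = d 1 * d 2`.
`E` = the unique elementary abelian subgroup of order 16, `V = C_T(E)`, `Q` extraspecial of order 128.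
-/

set_option autoImplicit false

namespace Cfsg.Agent.SylowU5.Basic

/-- `T` is of type `PSU(5,2)`: all the facts on the 2-group used in the proof of S0513. -/
structure U5T {G : Type*} [Group G] (T : Subgroup G) where
  /-- the five "transvections" of `E`; `d 0 = z` generates the centre of `T` -/
  d : Fin 5 → G
  /-- the elementary abelian subgroup of order 16 -/
  E : Subgroup G
  /-- the centralizer of `E` in `T` -/
  V : Subgroup G
  /-- the extraspecial subgroup of order 128 -/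
  Q : Subgroup G
  card_T : Nat.card T = 1024
  card_E : Nat.card E = 16
  card_V : Nat.card V = 256
  card_Q : Nat.card Q = 128
  V_le : V ≤ T
  E_le : E ≤ V
  Q_le : Q ≤ T
  -- centre, second centre
  z_comm : ∀ g ∈ T, g * d 0 = d 0 * g
  center_T : ∀ x ∈ T, (∀ g ∈ T, g * x = x * g) → x = 1 ∨ x = d 0
  center_two : ∀ x ∈ T, (∀ g ∈ T, g * x = x * g ∨ g * x = x * g * d 0) → x ∈ E ∧ x ∈ Q
  -- the group `E`
  d_mem : ∀ i, d i ∈ E
  d_ne_one : ∀ i, d i ≠ 1
  d_inj : ∀ i j, d i = d j → i = j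
  d_prod : d 0 * d 1 * d 2 * d 3 * d 4 = 1
  dd_ne_one : ∀ i j, i ≠ j → d i * d j ≠ 1
  dd_ne_d : ∀ i j k, i ≠ j → d i * d j ≠ d k
  dd_inj : ∀ i j k l, i ≠ j → k ≠ l → d i * d j = d k * d l → (i = k ∧ j = l) ∨ (i = l ∧ j = k)
  E_cases : ∀ x ∈ E, x = 1 ∨ (∃ i, x = d i) ∨ ∃ i j, i ≠ j ∧ x = d i * d j
  E_sq : ∀ x ∈ E, x * x = 1
  E_unique : ∀ A : Subgroup G, A ≤ T → (∀ x ∈ A, x * x = 1) → Nat.card A = 16 → A = E
  -- action of `T` on `E`
  mem_V_iff : ∀ g ∈ T, (g ∈ V ↔ ∀ x ∈ E, g * x = x * g)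
  conj_d : ∀ g ∈ T, ∀ i, ∃ j, g * d i * g⁻¹ = d j
  conj_d_trans : ∀ j, j ≠ 0 → ∃ g ∈ T, g * d 1 * g⁻¹ = d j
  cent_d : ∀ j, j ≠ 0 → ∀ g ∈ T, g * d j = d j * g → g ∈ V
  sq_mem_V : ∀ g ∈ T, g * g ∈ V
  -- the group `V`
  V_invol : ∀ x ∈ V, x * x = 1 → x ∈ E
  V_sq : ∀ x ∈ V, x ∉ E → ∃ i, x * x = d i
  V_sq_ex : ∀ i, ∃ x ∈ V, x * x = d i
  cent_V : ∀ v ∈ V, v ∉ E → ∀ x ∈ V, x * v = v * x → x ∈ E ∨ x * v ∈ E
  /-- the preimages of the five lines of `V/E` -/
  L : Fin 5 → Subgroup G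
  card_L : ∀ i, Nat.card (L i) = 64
  mem_L : ∀ i x, x ∈ L i ↔ (x ∈ V ∧ (x * x = 1 ∨ x * x = d i))
  -- the group `Q`
  z_mem_Q : d 0 ∈ Q
  d_not_mem_Q : ∀ i, i ≠ 0 → d i ∉ Q
  dd_mem_Q : ∀ i j, i ≠ 0 → j ≠ 0 → d i * d j ∈ Q
  Q_normal : ∀ g ∈ T, ∀ x ∈ Q, g * x * g⁻¹ ∈ Q
  Q_sq : ∀ x ∈ Q, x * x = 1 ∨ x * x = d 0
  Q_comm : ∀ x ∈ Q, ∀ y ∈ Q, x * y = y * x ∨ x * y = y * x * d 0
  Q_cent : ∀ g ∈ T, (∀ x ∈ Q, g * x = x * g) → g = 1 ∨ g = d 0
  Q_gen : Q ≤ Subgroup.closure {u : G | u ∈ Q ∧ u * u = 1 ∧ u ∉ E}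
  /-- `Q` has 55 involutions -/
  Q_card_invol : Nat.card {x : G // x ∈ Q ∧ x * x = 1} = 56
  /-- `T/Q` is quaternion of order 8 with central involution the image of `E` -/
  T_mod_Q : ∀ g ∈ T, g ∉ Q → g * d 1 ∈ Q ∨ g * g * d 1 ∈ Q
  cent_mod_z : ∀ x ∈ Q, x ∉ E → ∀ s ∈ T, (s * x = x * s ∨ s * x = x * s * d 0) → s ∈ Q ∨ s * d 1 ∈ Q
  -- involutions of `T`
  invol : ∀ x ∈ T, x * x = 1 → x ∈ E ∨ x ∈ Q
  cent_u : ∀ u ∈ T, u * u = 1 → u ∉ E → ∀ g ∈ T, g * u = u * g → g ∈ Q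
  z_sq_u : ∀ u ∈ T, u * u = 1 → u ∉ E → ∃ v ∈ Q, v * u = u * v ∧ v * v = d 0
  conj_u : ∀ u ∈ T, u * u = 1 → u ∉ E → ∀ u' ∈ T, u' * u' = 1 → u' ∉ E → u * u'⁻¹ ∈ V →
    ∃ g ∈ T, g * u * g⁻¹ = u'
  exists_u : ∀ g ∈ T, g ∉ V → ∃ u ∈ Q, u * u = 1 ∧ u * g⁻¹ ∈ V

/-- The results on fusion (steps (0)-(2), (5') of the proof) on which the end of the proof depends. -/
structure U5Fus {G : Type*} [Group G] (T : Sylow 2 G) (h : U5T (T : Subgroup G)) : Prop where
  /-- `z^G ∩ T = {d 0, ..., d 4}` -/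
  z_fus : ∀ g : G, g * h.d 0 * g⁻¹ ∈ (T : Subgroup G) → ∃ i, g * h.d 0 * g⁻¹ = h.d i
  /-- `N_G(E)` permutes the five `d i` -/
  E_perm : ∀ g ∈ Subgroup.normalizer (h.E : Set G), ∀ i, ∃ j, g * h.d i * g⁻¹ = h.d j
  /-- `N_G(E)` induces all even permutations of the five `d i` -/
  E_alt : ∀ π : Equiv.Perm (Fin 5), π ∈ alternatingGroup (Fin 5) →
    ∃ n ∈ Subgroup.normalizer (h.E : Set G), ∀ i, n * h.d i * n⁻¹ = h.d (π i)
  /-- all noncentral involutions of `Q` are conjugate to `t = d 1 * d 2` in `C_G(z)` -/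
  u_fus : ∀ u ∈ h.Q, u * u = 1 → u ≠ 1 → u ≠ h.d 0 →
    ∃ c : G, c * h.d 0 = h.d 0 * c ∧ c * u * c⁻¹ = h.d 1 * h.d 2
  /-- `C_G(z)` is solvable -/
  solvable_z : Group.IsSolvable ↥(Subgroup.centralizer ({h.d 0} : Set G))

end Cfsg.Agent.SylowU5.Basic
end

-- part: SylowU5/Iso
section
set_option linter.all false
open scoped Cfsg.Agent.FastGrp

-- part: SylowU5/Unitary
section
/-!
The group `M0` of order 1024 is isomorphic to every Sylow 2-subgroup of `PSU 5 F 2`, `|F| = 4`.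
-/

set_option autoImplicit false
set_option maxRecDepth 10000

open Cfsg

namespace Cfsg.Agent.SylowU5.Model

open Matrix Cfsg.Agent.Lib.FieldFour Cfsg.Agent.LieClassical.SUBasic

/-- The unitriangular matrix of an element. -/
def mx (x : Raw) : Matrix (Fin 5) (Fin 5) F4 :=
  !![1, x.l, x.p, x.b, x.a + x.b * cj x.l;
     0, 1, x.q, x.d, x.c + x.d * cj x.l;
     0, 0, 1, cj x.q, cj x.p + cj x.q * cj x.l;
     0, 0, 0, 1, cj x.l;
     0, 0, 0, 0, 1]

theorem mx_one : mx 1 = 1 := by decide +kernel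

theorem mx_mul (x y : Raw) : mx (x * y) = mx x * mx y := by
  ext i j
  simp only [Matrix.mul_apply, Fin.sum_univ_five]
  (revert i j; simp only [mx, Raw.mul_def, Raw.mul, cj_add, cj_mul, _root_.Fin.forall_fin_succ, _root_.Matrix.of_apply, _root_.Matrix.cons_val', _root_.Matrix.cons_val_fin_one, Fin.isValue, _root_.Matrix.cons_val_zero, _root_.Matrix.cons_val_one, _root_.Matrix.cons_val, _root_.mul_one, _root_.MulZeroClass.mul_zero, _root_.add_zero, _root_.Matrix.cons_val_succ, _root_.forall_const, _root_.true_and, _root_.one_mul, _root_.right_eq_add, _root_.mul_eq_zero, _root_.true_or, _root_.MulZeroClass.zero_mul, _root_.zero_add, _root_.and_self, _root_.implies_true, _root_.and_true]) <;> (repeat' with_reducible apply And.intro) <;> ring_nf <;> simp [Raw.two_zero]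

theorem mx_injective : Function.Injective mx := by
  intro x y h
  have e (i j : Fin 5) : mx x i j = mx y i j := by rw [h]
  have h1 : x.l = y.l := e 0 1
  have h2 : x.p = y.p := e 0 2
  have h3 : x.q = y.q := e 1 2
  have h4 : x.b = y.b := e 0 3
  have h5 : x.d = y.d := e 1 3
  have h6 : x.a + x.b * cj x.l = y.a + y.b * cj y.l := e 0 4
  have h7 : x.c + x.d * cj x.l = y.c + y.d * cj y.l := e 1 4
  rw [h4, h1] at h6
  rw [h5, h1] at h7
  exact Raw.ext h1 h2 h3 (add_right_cancel h6) h4 (add_right_cancel h7) h5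

theorem mx_det (x : Raw) : (mx x).det = 1 := by
  rw [Matrix.det_of_isUpperTriangular]
  · rw [Fin.prod_univ_five]
    simp [mx]
  · intro i j hij
    fin_cases i <;> fin_cases j <;> first | rfl | (exact absurd hij (by decide))

/-- The Hermitian form in the adapted basis. -/
def bf (u v : Fin 5 → F4) : F4 :=
  u 0 * cj (v 4) + u 4 * cj (v 0) + u 1 * cj (v 3) + u 3 * cj (v 1) + u 2 * cj (v 2)

/-- The base change. -/
def cmat : Matrix (Fin 5) (Fin 5) F4 :=
  !![1, 0, 0, 0, F4.w;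
     0, 1, 0, F4.w, 0;
     0, 0, 1, 0, 0;
     0, 1, 0, F4.v, 0;
     1, 0, 0, 0, F4.v]

/-- The inverse base change. -/
def cinv : Matrix (Fin 5) (Fin 5) F4 :=
  !![F4.v, 0, 0, 0, F4.w;
     0, F4.v, 0, F4.w, 0;
     0, 0, 1, 0, 0;
     0, 1, 0, 1, 0;
     1, 0, 0, 0, 1]

theorem cmat_cinv : cmat * cinv = 1 := by decide +kernel
theorem cinv_cmat : cinv * cmat = 1 := by decide +kernel

theorem wv4 : (F4.v : F4) = 1 + F4.w := rfl
theorem ww : (F4.w : F4) ^ 2 = 1 + F4.w := rfl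
theorem cjw : cj F4.w = 1 + F4.w := rfl

theorem herm_cmat (u v : Fin 5 → F4) : hermForm 5 F4 2 (cmat *ᵥ u) (cmat *ᵥ v) = bf u v := by
  rw [hermForm_apply]
  simp only [Fin.sum_univ_five, ← cj_eq, Matrix.mulVec, dotProduct]
  simp only [cmat, bf, cj_add, cj_mul, cj_zero, cj_one, wv4, cjw, _root_.Fin.isValue, _root_.Matrix.of_apply, _root_.Matrix.cons_val', _root_.Matrix.cons_val_zero, _root_.Matrix.cons_val_fin_one, _root_.one_mul, _root_.Matrix.cons_val_one, _root_.MulZeroClass.zero_mul, _root_.add_zero, _root_.Matrix.cons_val, _root_.zero_add]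
  have h2 : (2 : F4) = 0 := Raw.two_zero
  linear_combination (u 0 * F4.w * cj (v 4) + u 0 * cj (v 0) + u 0 * cj (v 4) +
    F4.w * u 4 * cj (v 0) + 2 * F4.w * u 4 * cj (v 4) + F4.w * u 1 * cj (v 3) +
    F4.w * u 3 * cj (v 1) + 2 * F4.w * u 3 * cj (v 3) + F4.w ^ 2 * u 4 * cj (v 4) +
    F4.w ^ 2 * u 3 * cj (v 3) + u 4 * cj (v 4) + u 1 * cj (v 1) + u 1 * cj (v 3) +
    u 3 * cj (v 3)) * h2

theorem eq_add_of_add {x y z : F4} (h : x + y = z) : y = x + z := by
  rw [← h, ← add_assoc, add_self, zero_add]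

theorem bf_mx (x : Raw) (h1 : x.a + cj x.a = x.p * cj x.p) (h2 : x.b + cj x.c = x.p * cj x.q)
    (h3 : x.d + cj x.d = x.q * cj x.q) (u v : Fin 5 → F4) :
    bf (mx x *ᵥ u) (mx x *ᵥ v) = bf u v := by
  have e1 : cj x.a = x.a + x.p * cj x.p := eq_add_of_add h1
  have e2 : cj x.c = x.b + x.p * cj x.q := eq_add_of_add h2
  have e3 : cj x.b = x.c + cj x.p * x.q := by
    have h := congrArg cj e2
    rw [cj_cj, cj_add, cj_mul, cj_cj] at h
    rw [h, add_assoc, add_self, add_zero]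
  have e4 : cj x.d = x.d + x.q * cj x.q := eq_add_of_add h3
  simp only [bf, Matrix.mulVec, dotProduct, Fin.sum_univ_five]
  simp only [mx, cj_add, cj_mul, cj_cj, e1, e2, e3, e4, _root_.Fin.isValue, _root_.Matrix.of_apply, _root_.Matrix.cons_val', _root_.Matrix.cons_val_zero, _root_.Matrix.cons_val_fin_one, _root_.one_mul, _root_.Matrix.cons_val_one, _root_.Matrix.cons_val, _root_.MulZeroClass.zero_mul, _root_.add_zero, _root_.zero_add]
  have h2 : (2 : F4) = 0 := Raw.two_zero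
  linear_combination (x.l * u 1 * cj (v 4) +
    x.p * u 2 * cj (v 4) +
    x.b * u 3 * cj (v 4) +
    x.a * u 4 * cj (v 4) +
    cj x.l * x.b * u 4 * cj (v 4) +
    cj x.l * u 4 * cj (v 1) +
    cj x.p * u 4 * cj (v 2) +
    x.c * u 4 * cj (v 3) +
    cj x.p * x.q * u 4 * cj (v 3) +
    cj x.p * x.p * u 4 * cj (v 4) +
    x.c * x.l * u 4 * cj (v 4) +
    cj x.p * x.l * x.q * u 4 * cj (v 4) +
    x.q * u 2 * cj (v 3) +
    x.l * x.q * u 2 * cj (v 4) +
    x.d * u 3 * cj (v 3) +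
    x.d * x.l * u 3 * cj (v 4) +
    cj x.l * x.d * u 4 * cj (v 3) +
    cj x.l * x.d * x.l * u 4 * cj (v 4) +
    cj x.q * u 3 * cj (v 2) +
    cj x.q * x.q * u 3 * cj (v 3) +
    cj x.q * x.p * u 3 * cj (v 4) +
    cj x.q * x.l * x.q * u 3 * cj (v 4) +
    cj x.l * cj x.q * u 4 * cj (v 2) +
    cj x.l * cj x.q * x.q * u 4 * cj (v 3) +
    cj x.l * cj x.q * x.p * u 4 * cj (v 4) +
    cj x.l * cj x.q * x.l * x.q * u 4 * cj (v 4)) * h2

/-- The elements satisfying the Hermitian condition. -/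
def Valid (x : Raw) : Prop :=
  x.a + cj x.a = x.p * cj x.p ∧ x.b + cj x.c = x.p * cj x.q ∧ x.d + cj x.d = x.q * cj x.q

private noncomputable def _root_.Cfsg.Agent.KO663d121.k0 : (by first | exact type_of% @Cfsg.Agent.SylowU5.Model.allB | exact Unit : Sort _) := by first | (refine @Subtype.val _ (fun g => @Cfsg.Agent.SylowU5.Model.allB = @g) (@Subtype.mk _ _ (@(fun x0 x1 => @Nat.rec.{1} @(fun x2 => @Bool) @Bool.true @(fun x2 x3 => @Bool.rec.{1} @(fun x4 => @Bool) @Bool.false @x3 (@x0 @x2)) @x1)) ?_); rfl') | exact @Cfsg.Agent.SylowU5.Model.allB | exact ()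
private theorem _root_.Cfsg.Agent.KO663d121.e0 : (by first | exact @Cfsg.Agent.SylowU5.Model.allB = @_root_.Cfsg.Agent.KO663d121.k0 | exact True : Prop) := by first | (delta _root_.Cfsg.Agent.KO663d121.k0; exact @Subtype.property _ (fun g => @Cfsg.Agent.SylowU5.Model.allB = @g) _) | rfl | trivial
private noncomputable def _root_.Cfsg.Agent.KO663d121.k1 : type_of% @Bool.and := @(fun x0 x1 => @Bool.rec.{1} @(fun x2 => @Bool) @Bool.false @x1 @x0)
private theorem _root_.Cfsg.Agent.KO663d121.e1 : @Bool.and = @_root_.Cfsg.Agent.KO663d121.k1 := by delta _root_.Cfsg.Agent.KO663d121.k1; rfl'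
private noncomputable def _root_.Cfsg.Agent.KO663d121.k2 : (by first | exact type_of% @Cfsg.Agent.SylowU5.Model.beqF | exact Unit : Sort _) := by first | (refine @Subtype.val _ (fun g => @Cfsg.Agent.SylowU5.Model.beqF = @g) (@Subtype.mk _ _ (@(fun x0 x1 => @Cfsg.Agent.Lib.FieldFour.F4.rec.{1} @(fun x2 => @Bool) (@Cfsg.Agent.Lib.FieldFour.F4.rec.{1} @(fun x2 => ((@Nat.hasNotBit (nat_lit 1) (@Cfsg.Agent.Lib.FieldFour.F4.ctorIdx @x2)) → @Bool) → @Bool) @(fun x2 => @Bool.true) @(fun x2 => @x2 (@Nat.ne_of_beq_eq_false _ _ (@Eq.refl.{1} _ @Bool.false))) @(fun x2 => @x2 (@Nat.ne_of_beq_eq_false _ _ (@Eq.refl.{1} _ @Bool.false))) @(fun x2 => @x2 (@Nat.ne_of_beq_eq_false _ _ (@Eq.refl.{1} _ @Bool.false))) @x1 @(fun x2 => @Bool.false)) (@Cfsg.Agent.Lib.FieldFour.F4.rec.{1} @(fun x2 => ((@Nat.hasNotBit (nat_lit 2) (@Cfsg.Agent.Lib.FieldFour.F4.ctorIdx @x2)) → @Bool) → @Bool) @(fun x2 => @x2 (@Nat.ne_of_beq_eq_false _ _ (@Eq.refl.{1} _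 @Bool.false))) @(fun x2 => @Bool.true) @(fun x2 => @x2 (@Nat.ne_of_beq_eq_false _ _ (@Eq.refl.{1} _ @Bool.false))) @(fun x2 => @x2 (@Nat.ne_of_beq_eq_false _ _ (@Eq.refl.{1} _ @Bool.false))) @x1 @(fun x2 => @Bool.false)) (@Cfsg.Agent.Lib.FieldFour.F4.rec.{1} @(fun x2 => ((@Nat.hasNotBit (nat_lit 4) (@Cfsg.Agent.Lib.FieldFour.F4.ctorIdx @x2)) → @Bool) → @Bool) @(fun x2 => @x2 (@Nat.ne_of_beq_eq_false _ _ (@Eq.refl.{1} _ @Bool.false))) @(fun x2 => @x2 (@Nat.ne_of_beq_eq_false _ _ (@Eq.refl.{1} _ @Bool.false))) @(fun x2 => @Bool.true) @(fun x2 => @x2 (@Nat.ne_of_beq_eq_false _ _ (@Eq.refl.{1} _ @Bool.false))) @x1 @(fun x2 => @Bool.false)) (@Cfsg.Agent.Lib.FieldFour.F4.rec.{1} @(fun x2 => ((@Nat.hasNotBit (nat_lit 8) (@Cfsg.Agent.Lib.FieldFour.F4.ctorIdx @x2)) → @Bool) → @Bool) @(fun x2 => @x2 (@Nat.ne_of_beq_eq_false _ _ (@Eq.refl.{1} _ @Bool.false))) @(fun x2 => @x2 (@Nat.ne_of_beq_eq_false _ _ (@Eq.refl.{1} _ @Bool.false))) @(fun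 x2 => @x2 (@Nat.ne_of_beq_eq_false _ _ (@Eq.refl.{1} _ @Bool.false))) @(fun x2 => @Bool.true) @x1 @(fun x2 => @Bool.false)) @x0)) ?_); (try delta Cfsg.Agent.SylowU5.Model.beqF); (try generalize @Cfsg.Agent.Lib.FieldFour.F4.ctorIdx = g0); rfl') | exact @Cfsg.Agent.SylowU5.Model.beqF | exact ()
private theorem _root_.Cfsg.Agent.KO663d121.e2 : (by first | exact @Cfsg.Agent.SylowU5.Model.beqF = @_root_.Cfsg.Agent.KO663d121.k2 | exact True : Prop) := by first | (delta _root_.Cfsg.Agent.KO663d121.k2; exact @Subtype.property _ (fun g => @Cfsg.Agent.SylowU5.Model.beqF = @g) _) | rfl | trivial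
private noncomputable def _root_.Cfsg.Agent.KO663d121.k3 : (by first | exact type_of% @Cfsg.Agent.Lib.FieldFour.F4.add | exact Unit : Sort _) := by first | (refine @Subtype.val _ (fun g => @Cfsg.Agent.Lib.FieldFour.F4.add = @g) (@Subtype.mk _ _ (@(fun x0 x1 => @Cfsg.Agent.Lib.FieldFour.F4.rec.{1} @(fun x2 => @Cfsg.Agent.Lib.FieldFour.F4) @x1 (@Cfsg.Agent.Lib.FieldFour.F4.rec.{1} @(fun x2 => @Cfsg.Agent.Lib.FieldFour.F4) @Cfsg.Agent.Lib.FieldFour.F4.i @Cfsg.Agent.Lib.FieldFour.F4.o @Cfsg.Agent.Lib.FieldFour.F4.v @Cfsg.Agent.Lib.FieldFour.F4.w @x1) (@Cfsg.Agent.Lib.FieldFour.F4.rec.{1} @(fun x2 => @Cfsg.Agent.Lib.FieldFour.F4) @Cfsg.Agent.Lib.FieldFour.F4.w @Cfsg.Agent.Lib.FieldFour.F4.v @Cfsg.Agent.Lib.FieldFour.F4.o @Cfsg.Agent.Lib.FieldFour.F4.i @x1) (@Cfsg.Agent.Lib.FieldFour.F4.rec.{1} @(fun x2 => @Cfsg.Agent.Lib.FieldFour.F4) @Cfsg.Agent.Lib.FieldFour.F4.v @Cfsg.Agent.Lib.FieldFour.F4.w @Cfsg.Agent.Lib.FieldFour.F4.i @Cfsg.Agent.Lib.FieldFour.F4.o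 @x1) @x0)) ?_); rfl') | exact @Cfsg.Agent.Lib.FieldFour.F4.add | exact ()
private theorem _root_.Cfsg.Agent.KO663d121.e3 : (by first | exact @Cfsg.Agent.Lib.FieldFour.F4.add = @_root_.Cfsg.Agent.KO663d121.k3 | exact True : Prop) := by first | (delta _root_.Cfsg.Agent.KO663d121.k3; exact @Subtype.property _ (fun g => @Cfsg.Agent.Lib.FieldFour.F4.add = @g) _) | rfl | trivial
private noncomputable def _root_.Cfsg.Agent.KO663d121.k4 : (by first | exact type_of% @Cfsg.Agent.SylowU5.Model.ofN | exact Unit : Sort _) := by first | (refine @Subtype.val _ (fun g => @Cfsg.Agent.SylowU5.Model.ofN = @g) (@Subtype.mk _ _ (@(fun x0 => @Bool.rec.{1} @(fun x1 => @Cfsg.Agent.Lib.FieldFour.F4) (@Bool.rec.{1} @(fun x1 => @Cfsg.Agent.Lib.FieldFour.F4) (@Bool.rec.{1} @(fun x1 => @Cfsg.Agent.Lib.FieldFour.F4) @Cfsg.Agent.Lib.FieldFour.F4.v @Cfsg.Agent.Lib.FieldFour.F4.w (@Nat.beq @x0 (nat_lit 2))) @Cfsg.Agent.Lib.FieldFour.F4.i (@Nat.beq @x0 (nat_lit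 1))) @Cfsg.Agent.Lib.FieldFour.F4.o (@Nat.beq @x0 (nat_lit 0)))) ?_); rfl') | exact @Cfsg.Agent.SylowU5.Model.ofN | exact ()
private theorem _root_.Cfsg.Agent.KO663d121.e4 : (by first | exact @Cfsg.Agent.SylowU5.Model.ofN = @_root_.Cfsg.Agent.KO663d121.k4 | exact True : Prop) := by first | (delta _root_.Cfsg.Agent.KO663d121.k4; exact @Subtype.property _ (fun g => @Cfsg.Agent.SylowU5.Model.ofN = @g) _) | rfl | trivial
private noncomputable def _root_.Cfsg.Agent.KO663d121.k5 : (by first | exact type_of% @Cfsg.Agent.Lib.FieldFour.F4.mul | exact Unit : Sort _) := by first | (refine @Subtype.val _ (fun g => @Cfsg.Agent.Lib.FieldFour.F4.mul = @g) (@Subtype.mk _ _ (@(fun x0 x1 => @Cfsg.Agent.Lib.FieldFour.F4.rec.{1} @(fun x2 => @Cfsg.Agent.Lib.FieldFour.F4) @Cfsg.Agent.Lib.FieldFour.F4.o @x1 (@Cfsg.Agent.Lib.FieldFour.F4.rec.{1} @(fun x2 => @Cfsg.Agent.Lib.FieldFour.F4) @Cfsg.Agent.Lib.FieldFour.F4.o @Cfsg.Agent.Lib.FieldFour.F4.w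 @Cfsg.Agent.Lib.FieldFour.F4.v @Cfsg.Agent.Lib.FieldFour.F4.i @x1) (@Cfsg.Agent.Lib.FieldFour.F4.rec.{1} @(fun x2 => @Cfsg.Agent.Lib.FieldFour.F4) @Cfsg.Agent.Lib.FieldFour.F4.o @Cfsg.Agent.Lib.FieldFour.F4.v @Cfsg.Agent.Lib.FieldFour.F4.i @Cfsg.Agent.Lib.FieldFour.F4.w @x1) @x0)) ?_); rfl') | exact @Cfsg.Agent.Lib.FieldFour.F4.mul | exact ()
private theorem _root_.Cfsg.Agent.KO663d121.e5 : (by first | exact @Cfsg.Agent.Lib.FieldFour.F4.mul = @_root_.Cfsg.Agent.KO663d121.k5 | exact True : Prop) := by first | (delta _root_.Cfsg.Agent.KO663d121.k5; exact @Subtype.property _ (fun g => @Cfsg.Agent.Lib.FieldFour.F4.mul = @g) _) | rfl | trivial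
private noncomputable def _root_.Cfsg.Agent.KO663d121.k6 : (by first | exact type_of% @Cfsg.Agent.SylowU5.Model.dec | exact Unit : Sort _) := by first | (refine @Subtype.val _ (fun g => @Cfsg.Agent.SylowU5.Model.dec = @g) (@Subtype.mk _ _ (@(fun x0 => @Cfsg.Agent.SylowU5.Model.Raw.mk (@Cfsg.Agent.KO663d121.k4 (@Nat.land (@Nat.shiftRight @x0 (nat_lit 8)) (nat_lit 3))) (@Cfsg.Agent.KO663d121.k4 (@Nat.land (@Nat.shiftRight @x0 (nat_lit 4)) (nat_lit 3))) (@Cfsg.Agent.KO663d121.k4 (@Nat.land (@Nat.shiftRight @x0 (nat_lit 6)) (nat_lit 3))) (@Cfsg.Agent.KO663d121.k3 (@Cfsg.Agent.KO663d121.k4 (@Nat.land @x0 (nat_lit 1))) (@Cfsg.Agent.KO663d121.k5 @Cfsg.Agent.Lib.FieldFour.F4.w (@Cfsg.Agent.KO663d121.k5 (@Cfsg.Agent.KO663d121.k4 (@Nat.land (@Nat.shiftRight @x0 (nat_lit 4)) (nat_lit 3))) (@Cfsg.Agent.Lib.FieldFour.F4.rec.{1} @(fun x1 => @Cfsg.Agent.Lib.FieldFour.F4) @Cfsg.Agent.Lib.FieldFour.F4.o @Cfsg.Agent.Lib.FieldFour.F4.i @Cfsg.Agent.Lib.FieldFour.F4.v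 @Cfsg.Agent.Lib.FieldFour.F4.w (@Cfsg.Agent.KO663d121.k4 (@Nat.land (@Nat.shiftRight @x0 (nat_lit 4)) (nat_lit 3))))))) (@Cfsg.Agent.KO663d121.k3 (@Cfsg.Agent.KO663d121.k4 (@Nat.land (@Nat.shiftRight @x0 (nat_lit 1)) (nat_lit 3))) (@Cfsg.Agent.KO663d121.k5 (@Cfsg.Agent.KO663d121.k4 (@Nat.land (@Nat.shiftRight @x0 (nat_lit 4)) (nat_lit 3))) (@Cfsg.Agent.Lib.FieldFour.F4.rec.{1} @(fun x1 => @Cfsg.Agent.Lib.FieldFour.F4) @Cfsg.Agent.Lib.FieldFour.F4.o @Cfsg.Agent.Lib.FieldFour.F4.i @Cfsg.Agent.Lib.FieldFour.F4.v @Cfsg.Agent.Lib.FieldFour.F4.w (@Cfsg.Agent.KO663d121.k4 (@Nat.land (@Nat.shiftRight @x0 (nat_lit 6)) (nat_lit 3)))))) (@Cfsg.Agent.Lib.FieldFour.F4.rec.{1} @(fun x1 => @Cfsg.Agent.Lib.FieldFour.F4) @Cfsg.Agent.Lib.FieldFour.F4.o @Cfsg.Agent.Lib.FieldFour.F4.i @Cfsg.Agent.Lib.FieldFour.F4.v @Cfsg.Agent.Lib.FieldFour.F4.w (@Cfsg.Agent.KO663d121.k4 (@Nat.land (@Nat.shiftRight @x0 (nat_lit 1)) (nat_lit 3)))) (@Cfsg.Agent.KO663d121.k3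 (@Cfsg.Agent.KO663d121.k4 (@Nat.land (@Nat.shiftRight @x0 (nat_lit 3)) (nat_lit 1))) (@Cfsg.Agent.KO663d121.k5 @Cfsg.Agent.Lib.FieldFour.F4.w (@Cfsg.Agent.KO663d121.k5 (@Cfsg.Agent.KO663d121.k4 (@Nat.land (@Nat.shiftRight @x0 (nat_lit 6)) (nat_lit 3))) (@Cfsg.Agent.Lib.FieldFour.F4.rec.{1} @(fun x1 => @Cfsg.Agent.Lib.FieldFour.F4) @Cfsg.Agent.Lib.FieldFour.F4.o @Cfsg.Agent.Lib.FieldFour.F4.i @Cfsg.Agent.Lib.FieldFour.F4.v @Cfsg.Agent.Lib.FieldFour.F4.w (@Cfsg.Agent.KO663d121.k4 (@Nat.land (@Nat.shiftRight @x0 (nat_lit 6)) (nat_lit 3))))))))) ?_); rewrite [← Cfsg.Agent.KO663d121.e5, ← Cfsg.Agent.KO663d121.e3, ← Cfsg.Agent.KO663d121.e4]; (try delta Cfsg.Agent.SylowU5.Model.dec Cfsg.Agent.SylowU5.Model.cj); (try generalize @Cfsg.Agent.SylowU5.Model.ofN = g0); (try generalize @Cfsg.Agent.Lib.FieldFour.F4.add = g1); (try generalize @Cfsg.Agent.Lib.FieldFour.F4.mul = g2); rfl') | exact @Cfsg.Agent.SylowU5.Model.dec | exact ()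
private theorem _root_.Cfsg.Agent.KO663d121.e6 : (by first | exact @Cfsg.Agent.SylowU5.Model.dec = @_root_.Cfsg.Agent.KO663d121.k6 | exact True : Prop) := by first | (delta _root_.Cfsg.Agent.KO663d121.k6; exact @Subtype.property _ (fun g => @Cfsg.Agent.SylowU5.Model.dec = @g) _) | rfl | trivial
private noncomputable def _root_.Cfsg.Agent.KO663d121.k7 : (by first | exact type_of% @Cfsg.Agent.SylowU5.Model.cj | exact Unit : Sort _) := by first | (refine @Subtype.val _ (fun g => @Cfsg.Agent.SylowU5.Model.cj = @g) (@Subtype.mk _ _ (@(fun x0 => @Cfsg.Agent.Lib.FieldFour.F4.rec.{1} @(fun x1 => @Cfsg.Agent.Lib.FieldFour.F4) @Cfsg.Agent.Lib.FieldFour.F4.o @Cfsg.Agent.Lib.FieldFour.F4.i @Cfsg.Agent.Lib.FieldFour.F4.v @Cfsg.Agent.Lib.FieldFour.F4.w @x0)) ?_); rfl') | exact @Cfsg.Agent.SylowU5.Model.cj | exact ()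
private theorem _root_.Cfsg.Agent.KO663d121.e7 : (by first | exact @Cfsg.Agent.SylowU5.Model.cj = @_root_.Cfsg.Agent.KO663d121.k7 | exact True : Prop) := by first | (delta _root_.Cfsg.Agent.KO663d121.k7; exact @Subtype.property _ (fun g => @Cfsg.Agent.SylowU5.Model.cj = @g) _) | rfl | trivial

theorem c_valid : allB (fun n => beqF (F4.add (dec n).a (cj (dec n).a))
    (F4.mul (dec n).p (cj (dec n).p)) && (beqF (F4.add (dec n).b (cj (dec n).c))
    (F4.mul (dec n).p (cj (dec n).q)) && beqF (F4.add (dec n).d (cj (dec n).d))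
    (F4.mul (dec n).q (cj (dec n).q)))) 1024 = true := by (first | (rewrite [Cfsg.Agent.KO663d121.e0, Cfsg.Agent.KO663d121.e1, Cfsg.Agent.KO663d121.e2, Cfsg.Agent.KO663d121.e3, Cfsg.Agent.KO663d121.e6, Cfsg.Agent.KO663d121.e7, Cfsg.Agent.KO663d121.e5]; decide +kernel) | decide +kernel)

theorem valid_dec (x : M0) : Valid (dec x.n) := by
  have h := (allB_iff _ _).1 c_valid x.n x.lt
  rw [Bool.and_eq_true, Bool.and_eq_true, beqF_iff, beqF_iff, beqF_iff] at h
  exact h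

/-- The element of `SL_5(4)`. -/
def toSL (x : M0) : Matrix.SpecialLinearGroup (Fin 5) F4 := ⟨cmat * mx (dec x.n) * cinv, by
  rw [Matrix.det_mul, Matrix.det_mul, mx_det, mul_one, ← Matrix.det_mul, cmat_cinv,
    Matrix.det_one]⟩

/-- The homomorphism of `M0` into `SU_5(2)`. -/
def toSU : M0 →* Cfsg.SU 5 F4 2 where
  toFun x := ⟨toSL x, by
    refine (mem_SU_iff _).2 ?_
    intro u v
    change hermForm 5 F4 2 ((cmat * mx (dec x.n) * cinv) *ᵥ u)
      ((cmat * mx (dec x.n) * cinv) *ᵥ v) = hermForm 5 F4 2 u v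
    rw [Matrix.mul_assoc, ← Matrix.mulVec_mulVec, ← Matrix.mulVec_mulVec,
      ← Matrix.mulVec_mulVec, ← Matrix.mulVec_mulVec, herm_cmat,
      bf_mx _ (valid_dec x).1 (valid_dec x).2.1 (valid_dec x).2.2, ← herm_cmat,
      Matrix.mulVec_mulVec, Matrix.mulVec_mulVec, cmat_cinv, Matrix.one_mulVec, Matrix.one_mulVec]⟩
  map_one' := by
    apply Subtype.ext
    apply Subtype.ext
    change cmat * mx (dec (1 : M0).n) * cinv = 1
    rw [M0.dec_one, mx_one, Matrix.mul_one, cmat_cinv]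
  map_mul' x y := by
    apply Subtype.ext
    apply Subtype.ext
    change cmat * mx (dec (x * y).n) * cinv = (cmat * mx (dec x.n) * cinv) *
      (cmat * mx (dec y.n) * cinv)
    rw [M0.dec_mul, mx_mul]
    simp only [Matrix.mul_assoc]
    rw [← Matrix.mul_assoc cinv cmat, cinv_cmat, Matrix.one_mul]

theorem toSU_coe (x : M0) : (((toSU x : Cfsg.SU 5 F4 2) : Matrix.SpecialLinearGroup (Fin 5) F4) :
    Matrix (Fin 5) (Fin 5) F4) = cmat * mx (dec x.n) * cinv := rfl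

/-- The homomorphism of `M0` into `PSU_5(2)`. -/
def toPSU : M0 →* Cfsg.PSU 5 F4 2 := (QuotientGroup.mk' _).comp toSU

theorem toPSU_injective : Function.Injective toPSU := by
  rw [injective_iff_map_eq_one]
  intro x hx
  have h1 : toSU x ∈ Subgroup.center (Cfsg.SU 5 F4 2) := (QuotientGroup.eq_one_iff _).1 hx
  rw [mem_center_SU_iff (F := F4) (q := 2) (by rw [F4.card]; norm_num) (by norm_num)] at h1
  obtain ⟨c, h5, h3, h⟩ := h1
  have h2 : cmat * mx (dec x.n) * cinv = Matrix.diagonal (fun _ => c) := by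
    rw [← toSU_coe, h, coe_suScalar]
  have h4 : mx (dec x.n) = Matrix.diagonal (fun _ => c) := by
    calc mx (dec x.n) = cinv * (cmat * mx (dec x.n) * cinv) * cmat := by
          simp only [Matrix.mul_assoc]
          rw [cinv_cmat, Matrix.mul_one, ← Matrix.mul_assoc, cinv_cmat, Matrix.one_mul]
      _ = cinv * Matrix.diagonal (fun _ => c) * cmat := by rw [h2]
      _ = Matrix.diagonal (fun _ => c) := by
          have : (Matrix.diagonal (fun _ => c) : Matrix (Fin 5) (Fin 5) F4) = c • 1 := by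
            rw [Matrix.smul_one_eq_diagonal]
          rw [this, Matrix.mul_smul, Matrix.smul_mul, Matrix.mul_one, cinv_cmat]
  have hc : (1 : F4) = c := by
    have := congrFun (congrFun h4 0) 0
    simpa [mx] using this
  rw [← hc, Matrix.diagonal_one, ← mx_one] at h4
  exact M0.dec_injective ((mx_injective h4).trans M0.dec_one.symm)

end Cfsg.Agent.SylowU5.Model
end

-- part: SylowU5/ChecksRank
section
/-!
The two heaviest kernel-checked facts on the codes of the group `M0` of order 1024, cut into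
pieces (each piece is its own theorem, so that the kernel can forget its cache in between).
-/

set_option autoImplicit false
set_option maxRecDepth 100000

namespace Cfsg.Agent.SylowU5.Model

private def fl (P : ℕ → Bool) (n : ℕ) : List ℕ :=
  Nat.rec [] (fun n ih => Bool.rec ih (n :: ih) (P n)) n
private def cnt (g : ℕ → Bool) (l : List ℕ) : ℕ :=
  List.rec 0 (fun a _ ih => Bool.rec ih (Nat.succ ih) (g a)) l
private def allL (g : ℕ → Bool) (l : List ℕ) : Bool :=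
  List.rec true (fun a _ ih => Bool.rec false ih (g a)) l
private def exL (g : ℕ → Bool) (l : List ℕ) : Bool :=
  List.rec false (fun a _ ih => Bool.rec ih true (g a)) l

private theorem countB_fl (P R g : ℕ → Bool) (n : ℕ) :
    countB (fun y => P y && (R y && g y)) n = cnt g (fl (fun y => P y && R y) n) := by
  induction n with
  | zero => rfl
  | succ n ih =>
    change (bif (P n && (R n && g n)) then Nat.succ (countB _ n) else countB _ n) =
      cnt g (Bool.rec (fl _ n) (n :: fl _ n) (P n && R n))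
    rw [ih]
    cases P n
    · rfl
    cases R n
    · rfl
    change (bif g n then _ else _) = @Bool.rec (fun _ => ℕ) _ _ (g n)
    cases g n <;> rfl

private theorem allB_fl (P g h : ℕ → Bool) (n : ℕ) :
    allB (fun y => imp (P y && g y) (h y)) n = allL (fun y => imp (g y) (h y)) (fl P n) := by
  induction n with
  | zero => rfl
  | succ n ih =>
    change (imp (P n && g n) (h n) && allB _ n) = allL _ (Bool.rec (fl _ n) (n :: fl _ n) (P n))
    rw [ih]
    cases P n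
    · rfl
    change (imp (g n) (h n) && _) = @Bool.rec (fun _ => Bool) _ _ (imp (g n) (h n))
    cases imp (g n) (h n) <;> rfl

private theorem allB_fl2 (P R g h : ℕ → Bool) (n : ℕ) :
    allB (fun y => imp (P y && (R y && g y)) (h y)) n =
      allL (fun y => imp (g y) (h y)) (fl (fun y => P y && R y) n) := by
  rw [← allB_fl]
  simp only [Bool.and_assoc]

private theorem exB_of_exL (g : ℕ → Bool) (n : ℕ) (l : List ℕ)
    (hl : allL (fun a => Nat.blt a n) l = true) (h : exL g l = true) : exB g n = true := by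
  induction l with
  | nil => exact absurd h Bool.false_ne_true
  | cons a l ih =>
    change Bool.rec false (allL _ l) (Nat.blt a n) = true at hl
    change Bool.rec (exL g l) true (g a) = true at h
    cases h1 : Nat.blt a n
    · rw [h1] at hl; exact absurd hl Bool.false_ne_true
    rw [h1] at hl
    cases h2 : g a
    · rw [h2] at h; exact ih hl h
    · exact (exB_iff g n).2 ⟨a, Nat.blt_eq.mp h1, h2⟩

private def LI : List ℕ := [821, 820, 819, 818, 805, 804, 803, 802, 789, 788, 787, 786, 775, 774, 769, 768, 567, 566, 563, 562, 551, 550, 547, 546, 535, 534, 531, 530, 517, 516, 513, 512, 311, 310, 309, 308, 295, 294, 293, 292, 279, 278, 277, 276, 259, 258, 257, 256, 7, 6, 5, 4, 3, 2, 1, 0]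
private def LU : List ℕ := [821, 820, 819, 818, 805, 804, 803, 802, 789, 788, 787, 786, 775, 774, 769, 768, 567, 566, 563, 562, 551, 550, 547, 546, 535, 534, 531, 530, 517, 516, 513, 512, 311, 310, 309, 308, 295, 294, 293, 292, 279, 278, 277, 276, 259, 258, 257, 256]
private def LS : List ℕ := [0, 8, 64, 72, 128, 136, 192, 200, 2, 10, 66, 74, 130, 138, 194, 202, 4, 12, 68, 76,
  132, 140, 196, 204]
private theorem LI_eq : fl (fun y => fQ y && Nat.beq (cm y y) 0) 1024 = LI := by decide +kernel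
private theorem LU_eq : fl fU 1024 = LU := by decide +kernel

private noncomputable def _root_.Cfsg.Agent.KO663d121.k8 : (by first | exact type_of% @Cfsg.Agent.SylowU5.Model.imp | exact Unit : Sort _) := by first | (refine @Subtype.val _ (fun g => @Cfsg.Agent.SylowU5.Model.imp = @g) (@Subtype.mk _ _ (@(fun x0 x1 => @Bool.rec.{1} @(fun x2 => @Bool) @Bool.true @x1 @x0)) ?_); rfl') | exact @Cfsg.Agent.SylowU5.Model.imp | exact ()
private theorem _root_.Cfsg.Agent.KO663d121.e8 : (by first | exact @Cfsg.Agent.SylowU5.Model.imp = @_root_.Cfsg.Agent.KO663d121.k8 | exact True : Prop) := by first | (delta _root_.Cfsg.Agent.KO663d121.k8; exact @Subtype.property _ (fun g => @Cfsg.Agent.SylowU5.Model.imp = @g) _) | rfl | trivial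
private noncomputable def _root_.Cfsg.Agent.KO663d121.k9 : (by first | exact type_of% @Cfsg.Agent.SylowU5.Model.kap | exact Unit : Sort _) := by first | (refine @Subtype.val _ (fun g => @Cfsg.Agent.SylowU5.Model.kap = @g) (@Subtype.mk _ _ (@(fun x0 x1 => @Nat.land (@Nat.shiftRight @Cfsg.Agent.SylowU5.Model.TAB (@Nat.mul (nat_lit 6) (@Nat.add (@Nat.mul (nat_lit 128) (@Nat.shiftRight @x0 (nat_lit 4))) (@Nat.land (@Nat.shiftRight @x1 (nat_lit 1)) (nat_lit 127))))) (nat_lit 63))) ?_); (try delta Cfsg.Agent.SylowU5.Model.kap); (try generalize @Cfsg.Agent.SylowU5.Model.TAB = g0); rfl') | exact @Cfsg.Agent.SylowU5.Model.kap | exact ()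
private theorem _root_.Cfsg.Agent.KO663d121.e9 : (by first | exact @Cfsg.Agent.SylowU5.Model.kap = @_root_.Cfsg.Agent.KO663d121.k9 | exact True : Prop) := by first | (delta _root_.Cfsg.Agent.KO663d121.k9; exact @Subtype.property _ (fun g => @Cfsg.Agent.SylowU5.Model.kap = @g) _) | rfl | trivial
private noncomputable def _root_.Cfsg.Agent.KO663d121.k10 : (by first | exact type_of% @Cfsg.Agent.SylowU5.Model.cm | exact Unit : Sort _) := by first | (refine @Subtype.val _ (fun g => @Cfsg.Agent.SylowU5.Model.cm = @g) (@Subtype.mk _ _ (@(fun x0 x1 => @Nat.xor (@Nat.xor @x0 @x1) (@Cfsg.Agent.KO663d121.k9 @x0 @x1))) ?_); rewrite [← Cfsg.Agent.KO663d121.e9]; (try delta Cfsg.Agent.SylowU5.Model.cm); (try generalize @Cfsg.Agent.SylowU5.Model.kap = g0); rfl') | exact @Cfsg.Agent.SylowU5.Model.cm | exact ()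
private theorem _root_.Cfsg.Agent.KO663d121.e10 : (by first | exact @Cfsg.Agent.SylowU5.Model.cm = @_root_.Cfsg.Agent.KO663d121.k10 | exact True : Prop) := by first | (delta _root_.Cfsg.Agent.KO663d121.k10; exact @Subtype.property _ (fun g => @Cfsg.Agent.SylowU5.Model.cm = @g) _) | rfl | trivial
private noncomputable def _root_.Cfsg.Agent.KO663d121.k11 : (by first | exact type_of% @Cfsg.Agent.SylowU5.Model.fU | exact Unit : Sort _) := by first | (refine @Subtype.val _ (fun g => @Cfsg.Agent.SylowU5.Model.fU = @g) (@Subtype.mk _ _ (@(fun x0 => @Bool.rec.{1} @(fun x1 => @Bool) @Bool.false (@Nat.beq (@Cfsg.Agent.KO663d121.k10 @x0 @x0) (nat_lit 0)) (@Bool.rec.{1} @(fun x1 => @Bool) @Bool.true @Bool.false (@Nat.ble @x0 (nat_lit 15))))) ?_); rewrite [← Cfsg.Agent.KO663d121.e10]; (try delta Cfsg.Agent.SylowU5.Model.fU Cfsg.Agent.SylowU5.Model.fE); (try generalize @Cfsg.Agent.SylowU5.Model.cm = g0); rfl') | exact @Cfsg.Agent.SylowU5.Model.fU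 | exact ()
private theorem _root_.Cfsg.Agent.KO663d121.e11 : (by first | exact @Cfsg.Agent.SylowU5.Model.fU = @_root_.Cfsg.Agent.KO663d121.k11 | exact True : Prop) := by first | (delta _root_.Cfsg.Agent.KO663d121.k11; exact @Subtype.property _ (fun g => @Cfsg.Agent.SylowU5.Model.fU = @g) _) | rfl | trivial
private noncomputable def _root_.Cfsg.Agent.KO663d121.k12 : (by first | exact type_of% @Cfsg.Agent.SylowU5.Model.com | exact Unit : Sort _) := by first | (refine @Subtype.val _ (fun g => @Cfsg.Agent.SylowU5.Model.com = @g) (@Subtype.mk _ _ (@(fun x0 x1 => @Nat.beq (@Cfsg.Agent.KO663d121.k10 @x0 @x1) (@Cfsg.Agent.KO663d121.k10 @x1 @x0))) ?_); rewrite [← Cfsg.Agent.KO663d121.e10]; (try delta Cfsg.Agent.SylowU5.Model.com); (try generalize @Cfsg.Agent.SylowU5.Model.cm = g0); rfl') | exact @Cfsg.Agent.SylowU5.Model.com | exact ()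
private theorem _root_.Cfsg.Agent.KO663d121.e12 : (by first | exact @Cfsg.Agent.SylowU5.Model.com = @_root_.Cfsg.Agent.KO663d121.k12 | exact True : Prop) := by first | (delta _root_.Cfsg.Agent.KO663d121.k12; exact @Subtype.property _ (fun g => @Cfsg.Agent.SylowU5.Model.com = @g) _) | rfl | trivial
private noncomputable def _root_.Cfsg.Agent.KO663d121.k13 : type_of% @Bool.not := @(fun x0 => @Bool.rec.{1} @(fun x1 => @Bool) @Bool.true @Bool.false @x0)
private theorem _root_.Cfsg.Agent.KO663d121.e13 : @Bool.not = @_root_.Cfsg.Agent.KO663d121.k13 := by delta _root_.Cfsg.Agent.KO663d121.k13; rfl'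
private noncomputable def _root_.Cfsg.Agent.KO663d121.k14 : type_of% @Bool.or := @(fun x0 x1 => @Bool.rec.{1} @(fun x2 => @Bool) @x1 @Bool.true @x0)
private theorem _root_.Cfsg.Agent.KO663d121.e14 : @Bool.or = @_root_.Cfsg.Agent.KO663d121.k14 := by delta _root_.Cfsg.Agent.KO663d121.k14; rfl'
private noncomputable def _root_.Cfsg.Agent.KO663d121.k15 : (by first | exact type_of% @Cfsg.Agent.SylowU5.Model.cnt | exact Unit : Sort _) := by first | (refine @Subtype.val _ (fun g => @Cfsg.Agent.SylowU5.Model.cnt = @g) (@Subtype.mk _ _ (@(fun x0 x1 => @List.rec.{1, 0} ℕ @(fun x2 => ℕ) (nat_lit 0) @(fun x2 x3 x4 => @Bool.rec.{1} @(fun x5 => ℕ) @x4 (@Nat.succ @x4) (@x0 @x2)) @x1)) ?_); rfl') | exact @Cfsg.Agent.SylowU5.Model.cnt | exact ()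
private theorem _root_.Cfsg.Agent.KO663d121.e15 : (by first | exact @Cfsg.Agent.SylowU5.Model.cnt = @_root_.Cfsg.Agent.KO663d121.k15 | exact True : Prop) := by first | (delta _root_.Cfsg.Agent.KO663d121.k15; exact @Subtype.property _ (fun g => @Cfsg.Agent.SylowU5.Model.cnt = @g) _) | rfl | trivial

private theorem rank_fast : allB (fun u => imp (fU u) (allL (fun x => imp
    (com x u && !(Nat.beq x 0 || (Nat.beq x u || (Nat.beq x 1 || Nat.beq x (cm u 1)))))
    (Nat.ble (cnt (fun y => com y u && com y x) LI) 8)) LI)) 1024 = true := by (first | (rewrite [Cfsg.Agent.KO663d121.e0, Cfsg.Agent.KO663d121.e8, Cfsg.Agent.KO663d121.e11, Cfsg.Agent.KO663d121.e1, Cfsg.Agent.KO663d121.e12, Cfsg.Agent.KO663d121.e13, Cfsg.Agent.KO663d121.e14, Cfsg.Agent.KO663d121.e10, Cfsg.Agent.KO663d121.e15]; decide +kernel) | decide +kernel)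

/-- The table look-up. -/
private def kp (a t : ℕ) : ℕ :=
  Nat.land (Nat.shiftRight TAB (Nat.mul 6 (Nat.add (Nat.mul 128 a) t))) 63

private noncomputable def _root_.Cfsg.Agent.KO663d121.k16 : (by first | exact type_of% @Cfsg.Agent.SylowU5.Model.fQ | exact Unit : Sort _) := by first | (refine @Subtype.val _ (fun g => @Cfsg.Agent.SylowU5.Model.fQ = @g) (@Subtype.mk _ _ (@(fun x0 => @Nat.beq (@Nat.land @x0 (nat_lit 200)) (nat_lit 0))) ?_); rfl') | exact @Cfsg.Agent.SylowU5.Model.fQ | exact ()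
private theorem _root_.Cfsg.Agent.KO663d121.e16 : (by first | exact @Cfsg.Agent.SylowU5.Model.fQ = @_root_.Cfsg.Agent.KO663d121.k16 | exact True : Prop) := by first | (delta _root_.Cfsg.Agent.KO663d121.k16; exact @Subtype.property _ (fun g => @Cfsg.Agent.SylowU5.Model.fQ = @g) _) | rfl | trivial
private noncomputable def _root_.Cfsg.Agent.KO663d121.k17 : (by first | exact type_of% @Cfsg.Agent.SylowU5.Model.dN | exact Unit : Sort _) := by first | (refine @Subtype.val _ (fun g => @Cfsg.Agent.SylowU5.Model.dN = @g) (@Subtype.mk _ _ (@(fun x0 => @Nat.land (@Nat.shiftRight (nat_lit 1039233) (@Nat.mul (nat_lit 4) @x0)) (nat_lit 15))) ?_); rfl') | exact @Cfsg.Agent.SylowU5.Model.dN | exact ()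
private theorem _root_.Cfsg.Agent.KO663d121.e17 : (by first | exact @Cfsg.Agent.SylowU5.Model.dN = @_root_.Cfsg.Agent.KO663d121.k17 | exact True : Prop) := by first | (delta _root_.Cfsg.Agent.KO663d121.k17; exact @Subtype.property _ (fun g => @Cfsg.Agent.SylowU5.Model.dN = @g) _) | rfl | trivial

private theorem split_s : allB (fun s => Nat.blt (Nat.shiftRight s 4) 64 &&
    (Nat.blt (Nat.land (Nat.shiftRight s 1) 7) 8 &&
    (Nat.beq (Nat.land (Nat.shiftRight s 1) 127)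
      (Nat.add (Nat.mul 8 (Nat.land (Nat.shiftRight s 4) 15)) (Nat.land (Nat.shiftRight s 1) 7)) &&
    (imp (Nat.beq (Nat.land (Nat.shiftRight s 4) 12) 0) (fQ s || fQ (cm s (dN 1))) &&
    (imp (Nat.beq (Nat.land (Nat.shiftRight s 4) 12) 0 && Nat.ble (Nat.land (Nat.shiftRight s 1) 7) 3) (fQ s) &&
    Nat.beq (kap s 1) 0))))) 1024 = true := by (first | (rewrite [Cfsg.Agent.KO663d121.e0, Cfsg.Agent.KO663d121.e1, Cfsg.Agent.KO663d121.e8, Cfsg.Agent.KO663d121.e14, Cfsg.Agent.KO663d121.e16, Cfsg.Agent.KO663d121.e10, Cfsg.Agent.KO663d121.e17, Cfsg.Agent.KO663d121.e9]; decide +kernel) | decide +kernel)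

private theorem kap_of_cm {s x k : ℕ} (h : cm s x = Nat.xor (cm x s) k) :
    Nat.xor (kap s x) (kap x s) = k := by
  change (s ^^^ x) ^^^ kap s x = ((x ^^^ s) ^^^ kap x s) ^^^ k at h
  change kap s x ^^^ kap x s = k
  rw [Nat.xor_comm x s, Nat.xor_assoc (s ^^^ x), Nat.xor_right_inj] at h
  rw [h, Nat.xor_comm (kap x s) k, Nat.xor_assoc, Nat.xor_self, Nat.xor_zero]

private def cz (x : ℕ) : Bool := allB (fun a => Bool.rec (allB (fun c =>
    Nat.ble 2 (Nat.xor (kp a (Nat.land (Nat.shiftRight x 1) 127))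
      (kp (Nat.shiftRight x 4) (Nat.add (Nat.mul 8 (Nat.land a 15)) c)))) 8) true
    (Nat.beq (Nat.land a 12) 0)) 64

private theorem cz_fast : allB (fun x => imp (fQ x && !(fE x)) (cz x)) 1024 = true := by decide +kernel

private def cu (x : ℕ) : Bool := allB (fun a => allB (fun c =>
    Bool.rec true (Nat.beq (Nat.land a 12) 0 && Nat.ble c 3) (Nat.beq (kp a (Nat.land (Nat.shiftRight x 1) 127))
      (kp (Nat.shiftRight x 4) (Nat.add (Nat.mul 8 (Nat.land a 15)) c)))) 8) 64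

private noncomputable def _root_.Cfsg.Agent.KO663d121.k19 : (by first | exact type_of% @Cfsg.Agent.SylowU5.Model.kp | exact Unit : Sort _) := by first | (refine @Subtype.val _ (fun g => @Cfsg.Agent.SylowU5.Model.kp = @g) (@Subtype.mk _ _ (@(fun x0 x1 => @Nat.land (@Nat.shiftRight @Cfsg.Agent.SylowU5.Model.TAB (@Nat.mul (nat_lit 6) (@Nat.add (@Nat.mul (nat_lit 128) @x0) @x1))) (nat_lit 63))) ?_); (try delta Cfsg.Agent.SylowU5.Model.kp); (try generalize @Cfsg.Agent.SylowU5.Model.TAB = g0); rfl') | exact @Cfsg.Agent.SylowU5.Model.kp | exact ()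
private theorem _root_.Cfsg.Agent.KO663d121.e19 : (by first | exact @Cfsg.Agent.SylowU5.Model.kp = @_root_.Cfsg.Agent.KO663d121.k19 | exact True : Prop) := by first | (delta _root_.Cfsg.Agent.KO663d121.k19; exact @Subtype.property _ (fun g => @Cfsg.Agent.SylowU5.Model.kp = @g) _) | rfl | trivial
private noncomputable def _root_.Cfsg.Agent.KO663d121.k22 : (by first | exact type_of% @Cfsg.Agent.SylowU5.Model.cu | exact Unit : Sort _) := by first | (refine @Subtype.val _ (fun g => @Cfsg.Agent.SylowU5.Model.cu = @g) (@Subtype.mk _ _ (@(fun x0 => @Nat.rec.{1} @(fun x1 => @Bool) @Bool.true @(fun x1 x2 => @Bool.rec.{1} @(fun x3 => @Bool) @Bool.false @x2 (@Nat.rec.{1} @(fun x3 => @Bool) @Bool.true @(fun x3 x4 => @Bool.rec.{1} @(fun x5 => @Bool) @Bool.false @x4 (@Bool.rec.{1} @(fun x5 => @Bool) @Bool.true (@Bool.rec.{1} @(fun x5 => @Bool) @Bool.false (@Nat.ble @x3 (nat_lit 3)) (@Nat.beq (@Nat.land @x1 (nat_lit 12)) (nat_lit 0))) (@Nat.beq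 (@Cfsg.Agent.KO663d121.k19 @x1 (@Nat.land (@Nat.shiftRight @x0 (nat_lit 1)) (nat_lit 127))) (@Cfsg.Agent.KO663d121.k19 (@Nat.shiftRight @x0 (nat_lit 4)) (@Nat.add (@Nat.mul (nat_lit 8) (@Nat.land @x1 (nat_lit 15))) @x3))))) (nat_lit 8))) (nat_lit 64))) ?_); rewrite [← Cfsg.Agent.KO663d121.e19]; (try delta Cfsg.Agent.SylowU5.Model.cu Cfsg.Agent.SylowU5.Model.allB); (try generalize @Cfsg.Agent.SylowU5.Model.kp = g0); rfl') | exact @Cfsg.Agent.SylowU5.Model.cu | exact ()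
private theorem _root_.Cfsg.Agent.KO663d121.e22 : (by first | exact @Cfsg.Agent.SylowU5.Model.cu = @_root_.Cfsg.Agent.KO663d121.k22 | exact True : Prop) := by first | (delta _root_.Cfsg.Agent.KO663d121.k22; exact @Subtype.property _ (fun g => @Cfsg.Agent.SylowU5.Model.cu = @g) _) | rfl | trivial

private theorem cu_fast : allB (fun x => imp (fU x) (cu x)) 1024 = true := by (first | (rewrite [Cfsg.Agent.KO663d121.e0, Cfsg.Agent.KO663d121.e8, Cfsg.Agent.KO663d121.e11, Cfsg.Agent.KO663d121.e22]; decide +kernel) | decide +kernel)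

private noncomputable def _root_.Cfsg.Agent.KO663d121.k23 : (by first | exact type_of% @Cfsg.Agent.SylowU5.Model.fV | exact Unit : Sort _) := by first | (refine @Subtype.val _ (fun g => @Cfsg.Agent.SylowU5.Model.fV = @g) (@Subtype.mk _ _ (@(fun x0 => @Nat.ble @x0 (nat_lit 255))) ?_); rfl') | exact @Cfsg.Agent.SylowU5.Model.fV | exact ()
private theorem _root_.Cfsg.Agent.KO663d121.e23 : (by first | exact @Cfsg.Agent.SylowU5.Model.fV = @_root_.Cfsg.Agent.KO663d121.k23 | exact True : Prop) := by first | (delta _root_.Cfsg.Agent.KO663d121.k23; exact @Subtype.property _ (fun g => @Cfsg.Agent.SylowU5.Model.fV = @g) _) | rfl | trivial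

private theorem conju_fast : allB (fun u => imp (fU u) (allL (fun u' => imp (fV (Nat.xor u u'))
    (exL (fun g => Nat.beq (cm g u) (cm u' g)) LS)) LU)) 1024 = true := by (first | (rewrite [Cfsg.Agent.KO663d121.e0, Cfsg.Agent.KO663d121.e8, Cfsg.Agent.KO663d121.e11, Cfsg.Agent.KO663d121.e23, Cfsg.Agent.KO663d121.e10]; decide +kernel) | decide +kernel)

/-- Involutions (and `1`) of `Q` commuting with `u` and `x`. -/
theorem c_rank : allB (fun u => imp (fU u) (allB (fun x => imp (fQ x && (Nat.beq (cm x x) 0 &&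
    (com x u && !(Nat.beq x 0 || (Nat.beq x u || (Nat.beq x 1 || Nat.beq x (cm u 1)))))))
    (Nat.ble (countB (fun y => fQ y && (Nat.beq (cm y y) 0 && (com y u && com y x))) 1024) 8)) 1024))
    1024 = true := by
  simp only [countB_fl fQ (fun y => Nat.beq (cm y y) 0), allB_fl2 fQ (fun y => Nat.beq (cm y y) 0), LI_eq]
  exact rank_fast

theorem c_centmodz : allB (fun x => imp (fQ x && !(fE x)) (allB (fun s => imp (comz s x)
    (fQ s || fQ (cm s (dN 1)))) 1024)) 1024 = true := by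
  rw [allB_iff]
  intro x hx
  rw [imp_iff]
  intro h1
  have h2 := (imp_iff _ _).1 ((allB_iff _ _).1 cz_fast x hx) h1
  rw [allB_iff]
  intro s hs
  rw [imp_iff]
  intro h3
  have h4 := (allB_iff _ _).1 split_s s hs
  simp only [Bool.and_eq_true, Nat.blt_eq] at h4
  obtain ⟨a1, a2, a3, a4, -, -⟩ := h4
  have h5 := (allB_iff _ _).1 h2 _ a1
  cases h6 : Nat.beq (Nat.land (Nat.shiftRight s 4) 12) 0
  · exfalso
    rw [h6] at h5
    have h7 := Nat.le_of_ble_eq_true ((allB_iff _ _).1 h5 _ a2)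
    rw [← Nat.eq_of_beq_eq_true a3] at h7
    change 2 ≤ Nat.xor (kap s x) (kap x s) at h7
    rcases Bool.or_eq_true_iff.1 h3 with h | h
    · rw [kap_of_cm (k := 0) ((Nat.eq_of_beq_eq_true h).trans (Nat.xor_zero _).symm)] at h7
      exact absurd h7 (by decide)
    · have h8 := (allB_iff _ _).1 split_s _ (cm_lt hx hs)
      simp only [Bool.and_eq_true] at h8
      have h9 : cm s x = Nat.xor (Nat.xor (cm x s) 1) (kap (cm x s) 1) := Nat.eq_of_beq_eq_true h
      rw [Nat.eq_of_beq_eq_true h8.2.2.2.2.2] at h9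
      rw [kap_of_cm (k := 1) (h9.trans (Nat.xor_zero _))] at h7
      exact absurd h7 (by decide)
  · exact (imp_iff _ _).1 a4 h6

theorem c_centu : allB (fun u => imp (fU u) (allB (fun g => imp (com g u) (fQ g)) 1024)) 1024 =
    true := by
  rw [allB_iff]
  intro x hx
  rw [imp_iff]
  intro h1
  have h2 := (imp_iff _ _).1 ((allB_iff _ _).1 cu_fast x hx) h1
  rw [allB_iff]
  intro s hs
  rw [imp_iff]
  intro h3
  have h4 := (allB_iff _ _).1 split_s s hs
  simp only [Bool.and_eq_true, Nat.blt_eq] at h4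
  obtain ⟨a1, a2, a3, -, a5, -⟩ := h4
  have h5 := (allB_iff _ _).1 ((allB_iff _ _).1 h2 _ a1) _ a2
  rw [← Nat.eq_of_beq_eq_true a3] at h5
  change Bool.rec true _ (Nat.beq (kap s x) (kap x s)) = true at h5
  have h6 : Nat.xor (kap s x) (kap x s) = 0 := kap_of_cm (k := 0) ((Nat.eq_of_beq_eq_true h3).trans (Nat.xor_zero _).symm)
  have h7 : kap s x = kap x s := Nat.xor_eq_zero_iff.1 h6
  rw [h7, Nat.beq_refl] at h5
  exact (imp_iff _ _).1 a5 h5

theorem c_conju : allB (fun u => imp (fU u) (allB (fun u' => imp (fU u' &&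
    fV (Nat.xor u u')) (exB (fun g => Nat.beq (cm g u) (cm u' g)) 256)) 1024)) 1024 =
    true := by
  rw [allB_iff]
  intro u hu
  rw [imp_iff]
  intro h1
  have h2 := (imp_iff _ _).1 ((allB_iff _ _).1 conju_fast u hu) h1
  rw [← LU_eq, ← allB_fl fU, allB_iff] at h2
  rw [allB_iff]
  intro v hv
  rw [imp_iff]
  intro h3
  exact exB_of_exL _ _ LS (by decide) ((imp_iff _ _).1 (h2 v hv) h3)

end Cfsg.Agent.SylowU5.Model
end

-- part: SylowU5/ChecksTwo
section
/-!
More kernel-checked facts on the codes of the group `M0` of order 1024 (the heavier ones;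
`c_rank` and `c_centmodz` are in `ChecksRank`).
-/

set_option autoImplicit false
set_option maxRecDepth 100000

namespace Cfsg.Agent.SylowU5.Model

private noncomputable def _root_.Cfsg.Agent.KO663d121.k18 : (by first | exact type_of% @Cfsg.Agent.SylowU5.Model.fE | exact Unit : Sort _) := by first | (refine @Subtype.val _ (fun g => @Cfsg.Agent.SylowU5.Model.fE = @g) (@Subtype.mk _ _ (@(fun x0 => @Nat.ble @x0 (nat_lit 15))) ?_); rfl') | exact @Cfsg.Agent.SylowU5.Model.fE | exact ()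
private theorem _root_.Cfsg.Agent.KO663d121.e18 : (by first | exact @Cfsg.Agent.SylowU5.Model.fE = @_root_.Cfsg.Agent.KO663d121.k18 | exact True : Prop) := by first | (delta _root_.Cfsg.Agent.KO663d121.k18; exact @Subtype.property _ (fun g => @Cfsg.Agent.SylowU5.Model.fE = @g) _) | rfl | trivial

theorem c_Enorm : allB (fun g => allB (fun x => Nat.beq (cm g x) (cm (Nat.xor (cm g x) g) g) &&
    fE (Nat.xor (cm g x) g)) 16) 1024 = true := by (first | (rewrite [Cfsg.Agent.KO663d121.e0, Cfsg.Agent.KO663d121.e1, Cfsg.Agent.KO663d121.e10, Cfsg.Agent.KO663d121.e18]; decide +kernel) | decide +kernel)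

end Cfsg.Agent.SylowU5.Model
end

-- part: SylowU5/Facts
section
/-!
The group `M0` of order 1024 satisfies `U5T`.
-/

set_option autoImplicit false

namespace Cfsg.Agent.SylowU5.Model

open Cfsg.Agent.SylowU5.Basic

theorem allB_apply {f : ℕ → Bool} {n : ℕ} (h : allB f n = true) {m : ℕ} (hm : m < n) : f m = true :=
  (allB_iff f n).1 h m hm

namespace M0

/-- A subgroup of `M0` given by a Boolean predicate on codes. -/
def sub (f : ℕ → Bool) (h1 : f 0 = true)
    (h2 : ∀ m n, m < 1024 → n < 1024 → f m = true → f n = true → f (cm m n) = true)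
    (h3 : ∀ n, n < 1024 → f n = true → f (ci n) = true) : Subgroup M0 where
  carrier := {x | f x.n = true}
  one_mem' := h1
  mul_mem' {x y} hx hy := h2 x.n y.n x.lt y.lt hx hy
  inv_mem' {x} hx := h3 x.n x.lt hx

theorem countB_eq (f : ℕ → Bool) (n : ℕ) :
    countB f n = ((Finset.range n).filter fun m => f m = true).card := by
  induction n with
  | zero => simp [countB]
  | succ n ih =>
    have h : countB f (n + 1) = bif f n then Nat.succ (countB f n) else countB f n := rfl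
    rw [h, Finset.range_add_one, Finset.filter_insert]
    by_cases hf : f n = true
    · rw [if_pos hf, Finset.card_insert_of_notMem (by simp), ih, hf]
      rfl
    · rw [if_neg hf, ← ih]
      rw [Bool.not_eq_true] at hf
      rw [hf]
      rfl

theorem natCard_codes (f : ℕ → Bool) : Nat.card {x : M0 // f x.n = true} = countB f 1024 := by
  rw [countB_eq]
  have e : {x : M0 // f x.n = true} ≃ ((Finset.range 1024).filter fun m => f m = true) :=
    { toFun := fun x => ⟨x.1.n, by simpa using ⟨x.1.lt, x.2⟩⟩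
      invFun := fun m => ⟨⟨m.1, (List.mem_range.1 (Finset.mem_filter.1 m.2).1)⟩,
        (Finset.mem_filter.1 m.2).2⟩
      left_inv := fun _ => rfl
      right_inv := fun _ => rfl }
  rw [Nat.card_congr e, Nat.card_eq_fintype_card, Fintype.card_coe]

/-- The elementary abelian subgroup of order 16. -/
def E : Subgroup M0 := sub fE (by decide)
  (fun m n _ _ h1 h2 => by
    have a1 : m < 16 := Nat.lt_succ_of_le (Nat.le_of_ble_eq_true h1)
    have a2 : n < 16 := Nat.lt_succ_of_le (Nat.le_of_ble_eq_true h2)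
    exact allB_apply (allB_apply c_mulE a1) a2)
  (fun n _ h => by
    have a1 : n < 16 := Nat.lt_succ_of_le (Nat.le_of_ble_eq_true h)
    exact allB_apply c_invE a1)

/-- The centralizer of `E`. -/
def V : Subgroup M0 := sub fV (by decide)
  (fun m n _ _ h1 h2 => by
    have a1 : m < 256 := Nat.lt_succ_of_le (Nat.le_of_ble_eq_true h1)
    have a2 : n < 256 := Nat.lt_succ_of_le (Nat.le_of_ble_eq_true h2)
    exact allB_apply (allB_apply c_mulV a1) a2)
  (fun n _ h => by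
    have a1 : n < 256 := Nat.lt_succ_of_le (Nat.le_of_ble_eq_true h)
    exact allB_apply c_invV a1)

/-- The extraspecial subgroup of order 128. -/
def Q : Subgroup M0 := sub fQ (by decide)
  (fun m n hm hn h1 h2 =>
    (imp_iff _ _).1 (allB_apply ((imp_iff _ _).1 (allB_apply c_mulQ hm) h1) hn) h2)
  (fun n hn h => (imp_iff _ _).1 (allB_apply c_invQ hn) h)

theorem mem_E {x : M0} : x ∈ E ↔ x.n < 16 := by
  change Nat.ble x.n 15 = true ↔ _
  rw [Nat.ble_eq]
  omega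

theorem mem_V {x : M0} : x ∈ V ↔ x.n < 256 := by
  change Nat.ble x.n 255 = true ↔ _
  rw [Nat.ble_eq]
  omega

theorem mem_Q {x : M0} : x ∈ Q ↔ fQ x.n = true := Iff.rfl

theorem fL_lt {i n : ℕ} (h : fL i n = true) : n < 256 := by
  unfold fL at h
  rw [Bool.and_eq_true] at h
  exact Nat.lt_succ_of_le (Nat.le_of_ble_eq_true h.1)

/-- The five subgroups of order 64. -/
def L (i : Fin 5) : Subgroup M0 := sub (fL i.1)
  (by fin_cases i <;> decide)
  (fun m n _ _ h1 h2 =>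
    (imp_iff _ _).1 (allB_apply ((imp_iff _ _).1 (allB_apply (allB_apply c_mulL i.2)
      (fL_lt h1)) h1) (fL_lt h2)) h2)
  (fun n _ h => (imp_iff _ _).1 (allB_apply (allB_apply c_invL i.2) (fL_lt h)) h)

theorem dN_lt (i : ℕ) : dN i < 16 := by
  unfold dN
  have : Nat.land (Nat.shiftRight 0xFDB81 (Nat.mul 4 i)) 15 ≤ 15 := Nat.and_le_right
  omega

/-- The five transvections. -/
def d (i : Fin 5) : M0 := ⟨dN i.1, lt_trans (dN_lt _) (by norm_num)⟩

theorem card_E : Nat.card E = 16 :=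
  (natCard_codes fE).trans (by decide +kernel)

theorem card_V : Nat.card V = 256 :=
  (natCard_codes fV).trans (by decide +kernel)

theorem card_Q : Nat.card Q = 128 :=
  (natCard_codes fQ).trans c_cardQ

theorem card_L (i : Fin 5) : Nat.card (L i) = 64 :=
  (natCard_codes (fL i.1)).trans (Nat.eq_of_beq_eq_true (allB_apply c_cardL i.2))

theorem eq_iff {x y : M0} : x = y ↔ Nat.beq x.n y.n = true := by
  rw [Nat.beq_eq, M0.ext_iff]

theorem com_iff {x y : M0} : com x.n y.n = true ↔ x * y = y * x := by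
  rw [eq_iff]; rfl

theorem d0_n : (d 0).n = 1 := by decide

theorem comz_iff {x y : M0} : comz x.n y.n = true ↔ (x * y = y * x ∨ x * y = y * x * d 0) := by
  unfold comz
  rw [Bool.or_eq_true, com_iff, eq_iff (x := x * y) (y := y * x * d 0)]
  simp only [mul_n, d0_n]

end M0

end Cfsg.Agent.SylowU5.Model
end

-- part: SylowU5/Model
section
/-!
The group `M0` of order 1024 satisfies `U5T`: the fields.
-/

set_option autoImplicit false
set_option maxRecDepth 10000

namespace Cfsg.Agent.SylowU5.Model.M0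

open Cfsg.Agent.SylowU5.Basic

theorem z_comm (g : M0) : g * d 0 = d 0 * g := by
  rw [← com_iff]
  exact allB_apply c_z_comm g.lt

theorem center_T (x : M0) (h : ∀ g, g * x = x * g) : x = 1 ∨ x = d 0 := by
  have h1 := (imp_iff _ _).1 (allB_apply c_center x.lt) (by
    rw [Bool.and_eq_true, Bool.and_eq_true]
    exact ⟨com_iff.2 (h ⟨256, by norm_num⟩), com_iff.2 (h ⟨512, by norm_num⟩),
      com_iff.2 (h ⟨64, by norm_num⟩)⟩)
  have h2 : x.n ≤ 1 := Nat.le_of_ble_eq_true h1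
  rcases Nat.le_one_iff_eq_zero_or_eq_one.1 h2 with h3 | h3
  · left; exact M0.ext h3
  · right; exact M0.ext (h3.trans d0_n.symm)

theorem fQ_of_lt_eight {n : ℕ} (h : n < 8) : fQ n = true := by
  revert n; decide

theorem center_two (x : M0) (h : ∀ g, g * x = x * g ∨ g * x = x * g * d 0) : x ∈ E ∧ x ∈ Q := by
  have h1 := (imp_iff _ _).1 (allB_apply c_center2 x.lt) (by
    rw [Bool.and_eq_true]
    exact ⟨comz_iff.2 (h ⟨256, by norm_num⟩), comz_iff.2 (h ⟨64, by norm_num⟩)⟩)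
  have h2 : x.n ≤ 7 := Nat.le_of_ble_eq_true h1
  exact ⟨mem_E.2 (by omega), mem_Q.2 (fQ_of_lt_eight (by omega))⟩

theorem d_mem (i : Fin 5) : d i ∈ E := mem_E.2 (dN_lt _)

theorem d_ne_one (i : Fin 5) : d i ≠ 1 := by
  rw [Ne, eq_iff]
  revert i; decide +kernel

theorem d_inj (i j : Fin 5) (h : d i = d j) : i = j := by
  rw [eq_iff] at h
  revert i j; decide +kernel

theorem d_prod : d 0 * d 1 * d 2 * d 3 * d 4 = 1 := by
  rw [eq_iff]
  decide +kernel

theorem dd_ne_one (i j : Fin 5) (h : i ≠ j) : d i * d j ≠ 1 := by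
  rw [Ne, eq_iff]
  revert i j; decide +kernel

theorem dd_ne_d (i j k : Fin 5) (h : i ≠ j) : d i * d j ≠ d k := by
  rw [Ne, eq_iff]
  revert i j k; decide +kernel

theorem dd_inj (i j k l : Fin 5) (h : i ≠ j) (h' : k ≠ l) (e : d i * d j = d k * d l) :
    (i = k ∧ j = l) ∨ (i = l ∧ j = k) := by
  rw [eq_iff] at e
  revert i j k l; decide +kernel

theorem E_cases (x : M0) (hx : x ∈ E) : x = 1 ∨ (∃ i, x = d i) ∨ ∃ i j, i ≠ j ∧ x = d i * d j := by
  have h := allB_apply c_Ecases (mem_E.1 hx)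
  rw [Bool.or_eq_true, Bool.or_eq_true, exB_iff, exB_iff] at h
  rcases h with h | ⟨i, hi, h⟩ | ⟨i, hi, h⟩
  · left; exact eq_iff.2 h
  · right; left; exact ⟨⟨i, hi⟩, eq_iff.2 h⟩
  · right; right
    rw [exB_iff] at h
    obtain ⟨j, hj, h⟩ := h
    rw [Bool.and_eq_true] at h
    refine ⟨⟨i, hi⟩, ⟨j, hj⟩, ?_, eq_iff.2 h.2⟩
    rintro hij
    have : i = j := congrArg Fin.val hij
    rw [this] at h
    simp at h

theorem E_sq (x : M0) (hx : x ∈ E) : x * x = 1 := eq_iff.2 (allB_apply c_Esq (mem_E.1 hx))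

theorem sub_le {A : Subgroup M0} {f : ℕ → Bool} (h : ∀ x ∈ A, f x.n = true) :
    Nat.card A ≤ countB f 1024 := by
  rw [← natCard_codes]
  exact Nat.card_le_card_of_injective (fun x : A => (⟨x.1, h x.1 x.2⟩ : {x : M0 // f x.n = true}))
    (fun x y hxy => Subtype.ext (congrArg (fun z : {x : M0 // f x.n = true} => z.1) hxy))

theorem fU_iff {x : M0} : fU x.n = true ↔ x ∉ E ∧ x * x = 1 := by
  unfold fU
  rw [Bool.and_eq_true, eq_iff, mem_E]
  simp only [fE, Bool.not_eq_true', mul_n, one_n]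
  refine and_congr_left fun _ => ?_
  rw [← Bool.not_eq_true, Nat.ble_eq]
  omega

theorem invol (x : M0) (hx : x * x = 1) : x ∈ E ∨ x ∈ Q := by
  have h := (imp_iff _ _).1 (allB_apply c_invol x.lt) (eq_iff.1 hx)
  rw [Bool.or_eq_true] at h
  rcases h with h | h
  · left; exact h
  · right; exact h

theorem cent_u (u : M0) (h1 : u * u = 1) (h2 : u ∉ E) (g : M0) (h : g * u = u * g) : g ∈ Q :=
  (imp_iff _ _).1 (allB_apply ((imp_iff _ _).1 (allB_apply c_centu u.lt) (fU_iff.2 ⟨h2, h1⟩)) g.lt)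
    (com_iff.2 h)

theorem E_unique (A : Subgroup M0) (hA : ∀ x ∈ A, x * x = 1) (hc : Nat.card A = 16) : A = E := by
  by_cases hAE : A ≤ E
  · exact Subgroup.eq_of_le_of_card_ge hAE (by rw [hc, card_E])
  exfalso
  have hcomm : ∀ x ∈ A, ∀ y ∈ A, x * y = y * x := by
    intro x hx y hy
    have h1 := hA (x * y) (A.mul_mem hx hy)
    have h2 := hA x hx
    have h3 := hA y hy
    have e1 : x⁻¹ = x := inv_eq_of_mul_eq_one_left h2
    have e2 : y⁻¹ = y := inv_eq_of_mul_eq_one_left h3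
    have e3 : (x * y)⁻¹ = x * y := inv_eq_of_mul_eq_one_left h1
    rw [← e3, mul_inv_rev, e1, e2]
  obtain ⟨u, huA, huE⟩ := SetLike.not_le_iff_exists.1 hAE
  have hu2 := hA u huA
  have hAQ : ∀ x ∈ A, x ∈ Q := fun x hx => cent_u u hu2 huE x (hcomm x hx u huA)
  -- an element outside `⟨z, u⟩`
  have hex : ∃ x ∈ A, ¬ (x = 1 ∨ x = u ∨ x = d 0 ∨ x = u * d 0) := by
    by_contra hcon
    push Not at hcon
    have hle : Nat.card A ≤ 4 := by
      have hf : ∀ x ∈ A, (fun n => Nat.beq n 0 || (Nat.beq n u.n || (Nat.beq n 1 ||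
          Nat.beq n (cm u.n 1)))) x.n = true := by
        intro x hx
        simp only [Bool.or_eq_true]
        by_contra h'
        push Not at h'
        exact absurd (hcon x hx) (by
          simp only [eq_iff (x := x), one_n, d0_n, mul_n]
          simpa using h')
      refine (sub_le (f := fun n => Nat.beq n 0 || (Nat.beq n u.n || (Nat.beq n 1 ||
          Nat.beq n (cm u.n 1)))) hf).trans ?_
      rw [countB_eq]
      refine (Finset.card_le_card (t := {0, u.n, 1, cm u.n 1}) ?_).trans Finset.card_le_four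
      intro n hn
      simp only [Finset.mem_filter, Bool.or_eq_true, Nat.beq_eq] at hn
      simp only [Finset.mem_insert, Finset.mem_singleton]
      exact hn.2
    rw [hc] at hle
    omega
  obtain ⟨x, hxA, hx⟩ := hex
  have h := (imp_iff _ _).1 (allB_apply ((imp_iff _ _).1 (allB_apply c_rank u.lt)
    (fU_iff.2 ⟨huE, hu2⟩)) x.lt) (by
      simp only [Bool.and_eq_true, Bool.not_eq_true', Bool.or_eq_false_iff]
      refine ⟨hAQ x hxA, eq_iff.1 (hA x hxA), com_iff.2 (hcomm x hxA u huA), ?_⟩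
      simp only [← Bool.not_eq_true, ← not_or]
      intro h'
      apply hx
      simp only [eq_iff (x := x), one_n, d0_n, mul_n]
      exact h')
  have h3 := Nat.le_of_ble_eq_true h
  have h4 : Nat.card A ≤ countB (fun y => fQ y && (Nat.beq (cm y y) 0 && (com y u.n && com y x.n)))
      1024 := by
    refine sub_le (fun y hy => ?_)
    simp only [Bool.and_eq_true]
    exact ⟨hAQ y hy, eq_iff.1 (hA y hy), com_iff.2 (hcomm y hy u huA), com_iff.2 (hcomm y hy x hxA)⟩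
  rw [hc] at h4
  omega

theorem mem_V_iff (g : M0) : g ∈ V ↔ ∀ x ∈ E, g * x = x * g := by
  constructor
  · intro hg x hx
    exact com_iff.1 (allB_apply (allB_apply c_centVE (mem_V.1 hg)) (mem_E.1 hx))
  · intro h
    exact (imp_iff _ _).1 (allB_apply (allB_apply c_cent_d g.lt) (by norm_num : (0 : ℕ) < 4))
      (com_iff.2 (h (d 1) (d_mem 1)))

theorem cent_d (j : Fin 5) (hj : j ≠ 0) (g : M0) (h : g * d j = d j * g) : g ∈ V := by
  obtain ⟨i, rfl⟩ := Fin.exists_succ_eq.2 hj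
  exact (imp_iff _ _).1 (allB_apply (allB_apply c_cent_d g.lt) i.2) (com_iff.2 h)

theorem conj_d (g : M0) (i : Fin 5) : ∃ j, g * d i * g⁻¹ = d j := by
  have h := allB_apply (allB_apply c_conj_d g.lt) i.2
  rw [exB_iff] at h
  obtain ⟨j, hj, h⟩ := h
  refine ⟨⟨j, hj⟩, ?_⟩
  rw [mul_inv_eq_iff_eq_mul]
  exact eq_iff.2 h

theorem conj_d_trans (j : Fin 5) (hj : j ≠ 0) : ∃ g : M0, g * d 1 * g⁻¹ = d j := by
  obtain ⟨i, rfl⟩ := Fin.exists_succ_eq.2 hj
  have h := allB_apply c_conj_tr i.2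
  refine ⟨⟨256 * i.1, by have := i.2; omega⟩, ?_⟩
  rw [mul_inv_eq_iff_eq_mul]
  exact eq_iff.2 h

theorem sq_mem_V (g : M0) : g * g ∈ V := allB_apply c_sqV g.lt

theorem V_invol (x : M0) (hx : x ∈ V) (h : x * x = 1) : x ∈ E :=
  (imp_iff _ _).1 (allB_apply c_Vinv (mem_V.1 hx)) (eq_iff.1 h)

theorem not_fE {x : M0} (h : x ∉ E) : (!(fE x.n)) = true := by
  rw [Bool.not_eq_true', ← Bool.not_eq_true]
  exact h

theorem V_sq (x : M0) (hx : x ∈ V) (h : x ∉ E) : ∃ i, x * x = d i := by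
  have h1 := (imp_iff _ _).1 (allB_apply c_Vsq (mem_V.1 hx)) (not_fE h)
  rw [exB_iff] at h1
  obtain ⟨i, hi, h2⟩ := h1
  exact ⟨⟨i, hi⟩, eq_iff.2 h2⟩

theorem V_sq_ex (i : Fin 5) : ∃ x ∈ V, x * x = d i := by
  have h1 := allB_apply c_Vsqex i.2
  rw [exB_iff] at h1
  obtain ⟨x, hx, h2⟩ := h1
  exact ⟨⟨x, lt_trans hx (by norm_num)⟩, mem_V.2 hx, eq_iff.2 h2⟩

theorem cent_V (v : M0) (hv : v ∈ V) (hvE : v ∉ E) (x : M0) (hx : x ∈ V) (h : x * v = v * x) :
    x ∈ E ∨ x * v ∈ E := by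
  have h1 := (imp_iff _ _).1 (allB_apply ((imp_iff _ _).1 (allB_apply c_centV (mem_V.1 hv))
    (not_fE hvE)) (mem_V.1 hx)) (com_iff.2 h)
  rw [Bool.or_eq_true] at h1
  exact h1

theorem mem_L (i : Fin 5) (x : M0) : x ∈ L i ↔ (x ∈ V ∧ (x * x = 1 ∨ x * x = d i)) := by
  constructor
  · intro h
    have hV := fL_lt h
    refine ⟨mem_V.2 hV, ?_⟩
    have h1 := allB_apply (allB_apply c_memL i.2) hV
    have h2 : fL i.1 x.n = true := h
    rw [Bool.and_eq_true, h2] at h1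
    have h3 := h1.2
    rw [cond_true, Bool.or_eq_true] at h3
    rcases h3 with h3 | h3
    · left; exact eq_iff.2 h3
    · right; exact eq_iff.2 h3
  · rintro ⟨hV, h⟩
    have h1 := allB_apply (allB_apply c_memL i.2) (mem_V.1 hV)
    rw [Bool.and_eq_true] at h1
    have h3 := h1.2
    by_contra hx
    have h2 : fL i.1 x.n = false := by
      rw [← Bool.not_eq_true]; exact hx
    rw [h2, cond_false, Bool.not_eq_true', Bool.or_eq_false_iff] at h3
    rcases h with h | h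
    · exact absurd (eq_iff.1 h) (by rw [Bool.not_eq_true]; exact h3.1)
    · exact absurd (eq_iff.1 h) (by rw [Bool.not_eq_true]; exact h3.2)

theorem d_not_mem_Q (i : Fin 5) (hi : i ≠ 0) : d i ∉ Q := by
  obtain ⟨i, rfl⟩ := Fin.exists_succ_eq.2 hi
  have h := allB_apply c_dQ i.2
  rw [Bool.not_eq_true', ← Bool.not_eq_true] at h
  exact h

theorem dd_mem_Q (i j : Fin 5) (hi : i ≠ 0) (hj : j ≠ 0) : d i * d j ∈ Q := by
  obtain ⟨i, rfl⟩ := Fin.exists_succ_eq.2 hi
  obtain ⟨j, rfl⟩ := Fin.exists_succ_eq.2 hj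
  exact allB_apply (allB_apply c_ddQ i.2) j.2

theorem z_mem_Q : d 0 ∈ Q := by
  change fQ (dN 0) = true
  decide

theorem Q_sq (x : M0) (hx : x ∈ Q) : x * x = 1 ∨ x * x = d 0 := by
  have h := Nat.le_of_ble_eq_true ((imp_iff _ _).1 (allB_apply c_Qsq x.lt) hx)
  rcases Nat.le_one_iff_eq_zero_or_eq_one.1 h with h3 | h3
  · left; exact M0.ext h3
  · right; exact M0.ext (h3.trans d0_n.symm)

theorem Q_comm (x : M0) (hx : x ∈ Q) (y : M0) (hy : y ∈ Q) : x * y = y * x ∨ x * y = y * x * d 0 :=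
  comz_iff.1 ((imp_iff _ _).1 (allB_apply ((imp_iff _ _).1 (allB_apply c_Qcomm x.lt) hx) y.lt) hy)

theorem Q_cent (g : M0) (h : ∀ x ∈ Q, g * x = x * g) : g = 1 ∨ g = d 0 := by
  have h1 := (imp_iff _ _).1 (allB_apply c_Qcent g.lt) (by
    simp only [Bool.and_eq_true]
    exact ⟨com_iff.2 (h ⟨2, by norm_num⟩ (by change fQ 2 = true; decide)),
      com_iff.2 (h ⟨4, by norm_num⟩ (by change fQ 4 = true; decide)),
      com_iff.2 (h ⟨16, by norm_num⟩ (by change fQ 16 = true; decide)),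
      com_iff.2 (h ⟨32, by norm_num⟩ (by change fQ 32 = true; decide)),
      com_iff.2 (h ⟨256, by norm_num⟩ (by change fQ 256 = true; decide)),
      com_iff.2 (h ⟨512, by norm_num⟩ (by change fQ 512 = true; decide))⟩)
  rcases Nat.le_one_iff_eq_zero_or_eq_one.1 (Nat.le_of_ble_eq_true h1) with h3 | h3
  · left; exact M0.ext h3
  · right; exact M0.ext (h3.trans d0_n.symm)

theorem Q_two (x : M0) (hx : x ∈ Q) : ∃ a b : M0, (a ∈ Q ∧ a * a = 1 ∧ a ∉ E) ∧
    (b ∈ Q ∧ b * b = 1 ∧ b ∉ E) ∧ x = a * b := by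
  have h := (imp_iff _ _).1 (allB_apply c_Qgen x.lt) hx
  rw [exB_iff] at h
  obtain ⟨a, ha, h⟩ := h
  simp only [Bool.and_eq_true] at h
  obtain ⟨⟨h1, h2⟩, h3, h4⟩ := h
  set A : M0 := ⟨a, ha⟩
  have hA := (fU_iff (x := A)).1 h1
  have hB := (fU_iff (x := A * x)).1 h3
  refine ⟨A, A * x, ⟨h2, hA.2, hA.1⟩, ⟨h4, hB.2, hB.1⟩, ?_⟩
  rw [← mul_assoc, hA.2, one_mul]

theorem Q_gen : Q ≤ Subgroup.closure {u : M0 | u ∈ Q ∧ u * u = 1 ∧ u ∉ E} := by
  intro x hx
  obtain ⟨a, b, ha, hb, rfl⟩ := Q_two x hx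
  exact Subgroup.mul_mem _ (Subgroup.subset_closure ha) (Subgroup.subset_closure hb)

theorem E_conj (g x : M0) (hx : x ∈ E) : g * x * g⁻¹ ∈ E := by
  have h := allB_apply (allB_apply c_Enorm g.lt) (mem_E.1 hx)
  rw [Bool.and_eq_true] at h
  obtain ⟨h1, h2⟩ := h
  have h3 : Nat.xor (cm g.n x.n) g.n < 1024 := xor_lt (cm_lt g.lt x.lt) g.lt
  have h4 : g * x = (⟨_, h3⟩ : M0) * g := eq_iff.2 h1
  rw [h4, mul_inv_cancel_right]
  exact h2

theorem Q_normal_aux (g u : M0) (h : u ∈ Q ∧ u * u = 1 ∧ u ∉ E) : g * u * g⁻¹ ∈ Q := by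
  have h1 : (g * u * g⁻¹) * (g * u * g⁻¹) = 1 := by
    calc (g * u * g⁻¹) * (g * u * g⁻¹) = g * (u * u) * g⁻¹ := by group
      _ = 1 := by rw [h.2.1]; group
  rcases invol _ h1 with h2 | h2
  · exfalso
    apply h.2.2
    have h3 := E_conj g⁻¹ _ h2
    have h4 : g⁻¹ * (g * u * g⁻¹) * g⁻¹⁻¹ = u := by group
    rw [h4] at h3
    exact h3
  · exact h2

theorem Q_normal (g x : M0) (hx : x ∈ Q) : g * x * g⁻¹ ∈ Q := by
  obtain ⟨a, b, ha, hb, rfl⟩ := Q_two x hx
  have : g * (a * b) * g⁻¹ = (g * a * g⁻¹) * (g * b * g⁻¹) := by group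
  rw [this]
  exact Q.mul_mem (Q_normal_aux g a ha) (Q_normal_aux g b hb)

theorem Q_card_invol : Nat.card {x : M0 // x ∈ Q ∧ x * x = 1} = 56 := by
  rw [← c_cardI, ← natCard_codes]
  refine Nat.card_congr (Equiv.subtypeEquivRight fun x => ?_)
  rw [Bool.and_eq_true]
  exact and_congr Iff.rfl eq_iff

theorem T_mod_Q (g : M0) (hg : g ∉ Q) : g * d 1 ∈ Q ∨ g * g * d 1 ∈ Q := by
  have h := (imp_iff _ _).1 (allB_apply c_TmodQ g.lt) (by
    rw [Bool.not_eq_true', ← Bool.not_eq_true]; exact hg)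
  rw [Bool.or_eq_true] at h
  exact h

theorem cent_mod_z (x : M0) (hx : x ∈ Q) (hxE : x ∉ E) (s : M0)
    (h : s * x = x * s ∨ s * x = x * s * d 0) : s ∈ Q ∨ s * d 1 ∈ Q := by
  have h1 := (imp_iff _ _).1 (allB_apply ((imp_iff _ _).1 (allB_apply c_centmodz x.lt) (by
    rw [Bool.and_eq_true]; exact ⟨hx, not_fE hxE⟩)) s.lt) (comz_iff.2 h)
  rw [Bool.or_eq_true] at h1
  exact h1

theorem z_sq_u (u : M0) (h1 : u * u = 1) (h2 : u ∉ E) : ∃ v ∈ Q, v * u = u * v ∧ v * v = d 0 := by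
  have h := (imp_iff _ _).1 (allB_apply c_zsq u.lt) (fU_iff.2 ⟨h2, h1⟩)
  rw [exB_iff] at h
  obtain ⟨v, hv, h⟩ := h
  simp only [Bool.and_eq_true] at h
  refine ⟨⟨v, hv⟩, h.1, com_iff.1 h.2.1, ?_⟩
  rw [eq_iff]
  have := h.2.2
  rw [← d0_n] at this
  exact this

theorem xor_V (a b : ℕ) (h : a >>> 8 = b >>> 8) : fV (Nat.xor a b) = true := by
  have h1 : (a ^^^ b) >>> 8 = 0 := by
    rw [Nat.shiftRight_xor_distrib, h, Nat.xor_self]
  rw [Nat.shiftRight_eq_div_pow] at h1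
  change Nat.ble (a ^^^ b) 255 = true
  rw [Nat.ble_eq]
  have : (a ^^^ b) / 256 = 0 := h1
  omega

theorem mul_shift8 (x y : M0) : (x * y).n >>> 8 = (x.n >>> 8) ^^^ (y.n >>> 8) := by
  rw [mul_n]
  change ((x.n ^^^ y.n) ^^^ kap x.n y.n) >>> 8 = _
  rw [Nat.shiftRight_xor_distrib, Nat.shiftRight_xor_distrib]
  have h1 : kap x.n y.n >>> 8 = 0 := by
    rw [Nat.shiftRight_eq_div_pow]
    have := kap_lt x.n y.n
    omega
  rw [h1, Nat.xor_zero]

theorem mem_V_shift (x : M0) : x ∈ V ↔ x.n >>> 8 = 0 := by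
  rw [mem_V, Nat.shiftRight_eq_div_pow]
  omega

theorem coset_V (x y : M0) : x * y⁻¹ ∈ V ↔ x.n >>> 8 = y.n >>> 8 := by
  have h := mul_shift8 (x * y⁻¹) y
  rw [inv_mul_cancel_right] at h
  rw [mem_V_shift, h]
  constructor
  · intro h1
    rw [h1, Nat.zero_xor]
  · intro h1
    have h2 := congrArg (fun t => t ^^^ (y.n >>> 8)) h1
    simpa [Nat.xor_assoc] using h2

theorem conj_u (u : M0) (h1 : u * u = 1) (h2 : u ∉ E) (u' : M0) (h3 : u' * u' = 1) (h4 : u' ∉ E)
    (h : u * u'⁻¹ ∈ V) : ∃ g : M0, g * u * g⁻¹ = u' := by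
  have h5 := (imp_iff _ _).1 (allB_apply ((imp_iff _ _).1 (allB_apply c_conju u.lt)
    (fU_iff.2 ⟨h2, h1⟩)) u'.lt) (by
      rw [Bool.and_eq_true]
      exact ⟨fU_iff.2 ⟨h4, h3⟩, xor_V _ _ ((coset_V u u').1 h)⟩)
  rw [exB_iff] at h5
  obtain ⟨g, hg, h6⟩ := h5
  refine ⟨⟨g, lt_trans hg (by norm_num)⟩, ?_⟩
  rw [mul_inv_eq_iff_eq_mul]
  exact eq_iff.2 h6

theorem exists_u (g : M0) (hg : g ∉ V) : ∃ u ∈ Q, u * u = 1 ∧ u * g⁻¹ ∈ V := by
  have h := (imp_iff _ _).1 (allB_apply c_exu g.lt) (by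
    rw [Bool.not_eq_true', ← Bool.not_eq_true]; exact hg)
  rw [exB_iff] at h
  obtain ⟨u, hu, h⟩ := h
  simp only [Bool.and_eq_true] at h
  exact ⟨⟨u, hu⟩, h.1, eq_iff.2 h.2.1, h.2.2⟩

/-- The group `M0` of order 1024 satisfies all the facts `U5T`. -/
def u5T : U5T (⊤ : Subgroup M0) where
  d := d
  E := E
  V := V
  Q := Q
  card_T := by rw [Subgroup.card_top]; exact card
  card_E := card_E
  card_V := card_V
  card_Q := card_Q
  V_le := le_top
  E_le := fun x hx => mem_V.2 (lt_trans (mem_E.1 hx) (by norm_num))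
  Q_le := le_top
  z_comm := fun g _ => z_comm g
  center_T := fun x _ h => center_T x (fun g => h g trivial)
  center_two := fun x _ h => center_two x (fun g => h g trivial)
  d_mem := d_mem
  d_ne_one := d_ne_one
  d_inj := d_inj
  d_prod := d_prod
  dd_ne_one := dd_ne_one
  dd_ne_d := dd_ne_d
  dd_inj := dd_inj
  E_cases := E_cases
  E_sq := E_sq
  E_unique := fun A _ h hc => E_unique A h hc
  mem_V_iff := fun g _ => mem_V_iff g
  conj_d := fun g _ i => conj_d g i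
  conj_d_trans := fun j hj => let ⟨g, hg⟩ := conj_d_trans j hj; ⟨g, trivial, hg⟩
  cent_d := fun j hj g _ h => cent_d j hj g h
  sq_mem_V := fun g _ => sq_mem_V g
  V_invol := V_invol
  V_sq := V_sq
  V_sq_ex := V_sq_ex
  cent_V := cent_V
  L := L
  card_L := card_L
  mem_L := mem_L
  z_mem_Q := z_mem_Q
  d_not_mem_Q := d_not_mem_Q
  dd_mem_Q := dd_mem_Q
  Q_normal := fun g _ => Q_normal g
  Q_sq := Q_sq
  Q_comm := Q_comm
  Q_cent := fun g _ => Q_cent g
  Q_gen := Q_gen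
  Q_card_invol := Q_card_invol
  T_mod_Q := fun g _ => T_mod_Q g
  cent_mod_z := fun x hx hxE s _ => cent_mod_z x hx hxE s
  invol := fun x _ => invol x
  cent_u := fun u _ h1 h2 g _ => cent_u u h1 h2 g
  z_sq_u := fun u _ => z_sq_u u
  conj_u := fun u _ h1 h2 u' _ h3 h4 h => let ⟨g, hg⟩ := conj_u u h1 h2 u' h3 h4 h; ⟨g, trivial, hg⟩
  exists_u := fun g _ => exists_u g

end Cfsg.Agent.SylowU5.Model.M0
end

-- part: SylowU5/Transport
section
/-!
Transport of `U5T` along an injective homomorphism.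
-/

set_option autoImplicit false

namespace Cfsg.Agent.SylowU5.Basic

variable {G H : Type*} [Group G] [Group H] {T : Subgroup G}

theorem natCard_map_inj (K : Subgroup G) (f : G →* H) (hf : Function.Injective f) :
    Nat.card (K.map f) = Nat.card K :=
  Nat.card_congr (K.equivMapOfInjective f hf).symm.toEquiv

/-- Transport of `U5T` along an injective homomorphism. -/
def U5T.map (h : U5T T) (f : G →* H) (hf : Function.Injective f) : U5T (T.map f) where
  d := fun i => f (h.d i)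
  E := h.E.map f
  V := h.V.map f
  Q := h.Q.map f
  card_T := by rw [natCard_map_inj _ f hf, h.card_T]
  card_E := by rw [natCard_map_inj _ f hf, h.card_E]
  card_V := by rw [natCard_map_inj _ f hf, h.card_V]
  card_Q := by rw [natCard_map_inj _ f hf, h.card_Q]
  V_le := Subgroup.map_mono h.V_le
  E_le := Subgroup.map_mono h.E_le
  Q_le := Subgroup.map_mono h.Q_le
  z_comm := by
    rintro _ ⟨g, hg, rfl⟩
    rw [← map_mul, ← map_mul, h.z_comm g hg]
  center_T := by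
    rintro _ ⟨x, hx, rfl⟩ hc
    rcases h.center_T x hx (fun g hg => hf (by
      rw [map_mul, map_mul]; exact hc (f g) (Subgroup.mem_map_of_mem f hg))) with e | e
    · left; rw [e, map_one]
    · right; rw [e]
  center_two := by
    rintro _ ⟨x, hx, rfl⟩ hc
    have := h.center_two x hx (fun g hg => by
      rcases hc (f g) (Subgroup.mem_map_of_mem f hg) with e | e
      · left; exact hf (by rw [map_mul, map_mul]; exact e)
      · right; exact hf (by rw [map_mul, map_mul, map_mul]; exact e))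
    exact ⟨Subgroup.mem_map_of_mem f this.1, Subgroup.mem_map_of_mem f this.2⟩
  d_mem := fun i => Subgroup.mem_map_of_mem f (h.d_mem i)
  d_ne_one := fun i e => h.d_ne_one i (hf (by rw [e, map_one]))
  d_inj := fun i j e => h.d_inj i j (hf e)
  d_prod := by
    have := congrArg f h.d_prod
    simpa only [map_mul, map_one] using this
  dd_ne_one := fun i j hij e => h.dd_ne_one i j hij (hf (by rw [map_mul, map_one]; exact e))
  dd_ne_d := fun i j k hij e => h.dd_ne_d i j k hij (hf (by rw [map_mul]; exact e))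
  dd_inj := fun i j k l hij hkl e => h.dd_inj i j k l hij hkl (hf (by
    rw [map_mul, map_mul]; exact e))
  E_cases := by
    rintro _ ⟨x, hx, rfl⟩
    rcases h.E_cases x hx with e | ⟨i, e⟩ | ⟨i, j, hij, e⟩
    · left; rw [e, map_one]
    · right; left; exact ⟨i, by rw [e]⟩
    · right; right; exact ⟨i, j, hij, by rw [e, map_mul]⟩
  E_sq := by
    rintro _ ⟨x, hx, rfl⟩
    rw [← map_mul, h.E_sq x hx, map_one]
  E_unique := by
    intro A hA hsq hcard
    have hAr : A ≤ f.range := hA.trans (by rintro _ ⟨x, -, rfl⟩; exact ⟨x, rfl⟩)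
    have hA' : (A.comap f).map f = A := Subgroup.map_comap_eq_self hAr
    have h1 : A.comap f = h.E := by
      apply h.E_unique
      · intro x hx
        obtain ⟨y, hy, e⟩ := hA (Subgroup.mem_comap.1 hx)
        rw [← hf e]; exact hy
      · intro x hx
        exact hf (by rw [map_mul, map_one]; exact hsq _ (Subgroup.mem_comap.1 hx))
      · rw [← hcard, ← hA', natCard_map_inj _ f hf, hA']
    rw [← hA', h1]
  mem_V_iff := by
    rintro _ ⟨g, hg, rfl⟩
    rw [Subgroup.mem_map_iff_mem hf, h.mem_V_iff g hg]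
    constructor
    · rintro h1 _ ⟨x, hx, rfl⟩
      rw [← map_mul, ← map_mul, h1 x hx]
    · intro h1 x hx
      exact hf (by rw [map_mul, map_mul]; exact h1 _ (Subgroup.mem_map_of_mem f hx))
  conj_d := by
    rintro _ ⟨g, hg, rfl⟩ i
    obtain ⟨j, hj⟩ := h.conj_d g hg i
    exact ⟨j, by rw [← hj, map_mul, map_mul, map_inv]⟩
  conj_d_trans := by
    intro j hj
    obtain ⟨g, hg, e⟩ := h.conj_d_trans j hj
    exact ⟨f g, Subgroup.mem_map_of_mem f hg, by rw [← e, map_mul, map_mul, map_inv]⟩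
  cent_d := by
    rintro j hj _ ⟨g, hg, rfl⟩ e
    exact Subgroup.mem_map_of_mem f (h.cent_d j hj g hg (hf (by rw [map_mul, map_mul]; exact e)))
  sq_mem_V := by
    rintro _ ⟨g, hg, rfl⟩
    rw [← map_mul]
    exact Subgroup.mem_map_of_mem f (h.sq_mem_V g hg)
  V_invol := by
    rintro _ ⟨x, hx, rfl⟩ e
    exact Subgroup.mem_map_of_mem f (h.V_invol x hx (hf (by rw [map_mul, map_one]; exact e)))
  V_sq := by
    rintro _ ⟨x, hx, rfl⟩ hE
    rw [Subgroup.mem_map_iff_mem hf] at hE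
    obtain ⟨i, e⟩ := h.V_sq x hx hE
    exact ⟨i, by rw [← e, map_mul]⟩
  V_sq_ex := by
    intro i
    obtain ⟨x, hx, e⟩ := h.V_sq_ex i
    exact ⟨f x, Subgroup.mem_map_of_mem f hx, by rw [← e, map_mul]⟩
  cent_V := by
    rintro _ ⟨v, hv, rfl⟩ hvE _ ⟨x, hx, rfl⟩ e
    rw [Subgroup.mem_map_iff_mem hf] at hvE
    rw [← map_mul, Subgroup.mem_map_iff_mem hf, Subgroup.mem_map_iff_mem hf]
    exact h.cent_V v hv hvE x hx (hf (by rw [map_mul, map_mul]; exact e))
  L := fun i => (h.L i).map f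
  card_L := fun i => by rw [natCard_map_inj _ f hf, h.card_L]
  mem_L := by
    intro i y
    constructor
    · rintro ⟨x, hx, rfl⟩
      have h1 := (h.mem_L i x).1 hx
      refine ⟨Subgroup.mem_map_of_mem f h1.1, ?_⟩
      rcases h1.2 with e | e
      · left; rw [← map_mul, e, map_one]
      · right; rw [← map_mul, e]
    · rintro ⟨⟨x, hx, rfl⟩, h2⟩
      apply Subgroup.mem_map_of_mem f
      rw [h.mem_L]
      refine ⟨hx, ?_⟩
      rcases h2 with e | e
      · left; exact hf (by rw [map_mul, map_one]; exact e)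
      · right; exact hf (by rw [map_mul]; exact e)
  z_mem_Q := Subgroup.mem_map_of_mem f h.z_mem_Q
  d_not_mem_Q := fun i hi e => h.d_not_mem_Q i hi ((Subgroup.mem_map_iff_mem hf).1 e)
  dd_mem_Q := fun i j hi hj => by
    rw [← map_mul]; exact Subgroup.mem_map_of_mem f (h.dd_mem_Q i j hi hj)
  Q_normal := by
    rintro _ ⟨g, hg, rfl⟩ _ ⟨x, hx, rfl⟩
    rw [← map_inv, ← map_mul, ← map_mul]
    exact Subgroup.mem_map_of_mem f (h.Q_normal g hg x hx)
  Q_sq := by
    rintro _ ⟨x, hx, rfl⟩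
    rcases h.Q_sq x hx with e | e
    · left; rw [← map_mul, e, map_one]
    · right; rw [← map_mul, e]
  Q_comm := by
    rintro _ ⟨x, hx, rfl⟩ _ ⟨y, hy, rfl⟩
    rcases h.Q_comm x hx y hy with e | e
    · left; rw [← map_mul, e, map_mul]
    · right; rw [← map_mul, e, map_mul, map_mul]
  Q_cent := by
    rintro _ ⟨g, hg, rfl⟩ hc
    rcases h.Q_cent g hg (fun x hx => hf (by
      rw [map_mul, map_mul]; exact hc _ (Subgroup.mem_map_of_mem f hx))) with e | e
    · left; rw [e, map_one]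
    · right; rw [e]
  Q_gen := by
    have h1 := Subgroup.map_mono (f := f) h.Q_gen
    rw [MonoidHom.map_closure] at h1
    refine h1.trans (Subgroup.closure_mono ?_)
    rintro _ ⟨u, ⟨hu, hu2, huE⟩, rfl⟩
    refine ⟨Subgroup.mem_map_of_mem f hu, by rw [← map_mul, hu2, map_one], ?_⟩
    rw [Subgroup.mem_map_iff_mem hf]
    exact huE
  Q_card_invol := by
    rw [← h.Q_card_invol]
    refine Nat.card_congr (Equiv.ofBijective
      (fun x : {x : G // x ∈ h.Q ∧ x * x = 1} => (⟨f x.1, Subgroup.mem_map_of_mem f x.2.1, by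
        rw [← map_mul, x.2.2, map_one]⟩ : {y : H // y ∈ h.Q.map f ∧ y * y = 1})) ⟨?_, ?_⟩).symm
    · intro x y e
      exact Subtype.ext (hf (congrArg Subtype.val e))
    · rintro ⟨_, ⟨x, hx, rfl⟩, e⟩
      exact ⟨⟨x, hx, hf (by rw [map_mul, map_one]; exact e)⟩, rfl⟩
  T_mod_Q := by
    rintro _ ⟨g, hg, rfl⟩ hgQ
    rw [Subgroup.mem_map_iff_mem hf] at hgQ
    rw [← map_mul, ← map_mul, ← map_mul, Subgroup.mem_map_iff_mem hf, Subgroup.mem_map_iff_mem hf]
    exact h.T_mod_Q g hg hgQ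
  cent_mod_z := by
    rintro _ ⟨x, hx, rfl⟩ hxE _ ⟨s, hs, rfl⟩ hc
    rw [Subgroup.mem_map_iff_mem hf] at hxE
    rw [← map_mul, Subgroup.mem_map_iff_mem hf, Subgroup.mem_map_iff_mem hf]
    refine h.cent_mod_z x hx hxE s hs ?_
    rcases hc with e | e
    · left; exact hf (by rw [map_mul, map_mul]; exact e)
    · right; exact hf (by rw [map_mul, map_mul, map_mul]; exact e)
  invol := by
    rintro _ ⟨x, hx, rfl⟩ e
    rw [Subgroup.mem_map_iff_mem hf, Subgroup.mem_map_iff_mem hf]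
    exact h.invol x hx (hf (by rw [map_mul, map_one]; exact e))
  cent_u := by
    rintro _ ⟨u, hu, rfl⟩ e huE _ ⟨g, hg, rfl⟩ hc
    rw [Subgroup.mem_map_iff_mem hf] at huE ⊢
    exact h.cent_u u hu (hf (by rw [map_mul, map_one]; exact e)) huE g hg
      (hf (by rw [map_mul, map_mul]; exact hc))
  z_sq_u := by
    rintro _ ⟨u, hu, rfl⟩ e huE
    rw [Subgroup.mem_map_iff_mem hf] at huE
    obtain ⟨v, hv, h1, h2⟩ := h.z_sq_u u hu (hf (by rw [map_mul, map_one]; exact e)) huE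
    exact ⟨f v, Subgroup.mem_map_of_mem f hv, by rw [← map_mul, h1, map_mul], by
      rw [← map_mul, h2]⟩
  conj_u := by
    rintro _ ⟨u, hu, rfl⟩ e huE _ ⟨u', hu', rfl⟩ e' huE' hc
    rw [Subgroup.mem_map_iff_mem hf] at huE huE'
    rw [← map_inv, ← map_mul, Subgroup.mem_map_iff_mem hf] at hc
    obtain ⟨g, hg, h1⟩ := h.conj_u u hu (hf (by rw [map_mul, map_one]; exact e)) huE u' hu'
      (hf (by rw [map_mul, map_one]; exact e')) huE' hc
    exact ⟨f g, Subgroup.mem_map_of_mem f hg, by rw [← h1, map_mul, map_mul, map_inv]⟩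
  exists_u := by
    rintro _ ⟨g, hg, rfl⟩ hgV
    rw [Subgroup.mem_map_iff_mem hf] at hgV
    obtain ⟨u, hu, h1, h2⟩ := h.exists_u g hg hgV
    exact ⟨f u, Subgroup.mem_map_of_mem f hu, by rw [← map_mul, h1, map_one], by
      rw [← map_inv, ← map_mul]; exact Subgroup.mem_map_of_mem f h2⟩

end Cfsg.Agent.SylowU5.Basic
end

-- part: SylowU5/Iso
section
/-!
Every Sylow 2-subgroup of `PSU 5 F 2`, `|F| = 4`, is isomorphic to `M0`; consequently a Sylow
2-subgroup of type `PSU(5,2)` satisfies `U5T`.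
-/

set_option autoImplicit false

open Cfsg

namespace Cfsg.Agent.SylowU5.Iso

open Cfsg.Agent.Lib.FieldFour Cfsg.Agent.SylowU5.Basic Cfsg.Agent.SylowU5.Model

theorem card_PSU {F : Type*} [Field F] [Fintype F] (hF : Fintype.card F = 4) :
    Nat.card (Cfsg.PSU 5 F 2) = 13685760 := by
  have h := Cfsg.Agent.S0280.result (F := F) (q := 2) (by rw [hF]; norm_num) 5 (by norm_num)
  simp only [Finset.prod_range_succ, Finset.prod_range_zero] at h
  have e0 : Even 0 := by decide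
  have e1 : ¬ Even 1 := by decide
  have e2 : Even 2 := by decide
  have e3 : ¬ Even 3 := by decide
  have e4 : Even 4 := by decide
  rw [if_pos e0, if_neg e1, if_pos e2, if_neg e3, if_pos e4] at h
  norm_num at h
  omega

/-- Sylow 2-subgroups of `PSU_5(2)` are isomorphic to `M0`. -/
theorem nonempty_mulEquiv {F : Type*} [Field F] [Fintype F] (hF : Fintype.card F = 4)
    (P : Sylow 2 (Cfsg.PSU 5 F 2)) : (Nonempty (M0 ≃* (P : Subgroup (Cfsg.PSU 5 F 2))) :) := by
  let e : Cfsg.PSU 5 F4 2 ≃* Cfsg.PSU 5 F 2 :=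
    Cfsg.Agent.LieClassical.FieldTransfer.psuCongr 5 2 (equivOfCard hF).symm
  let f : M0 →* Cfsg.PSU 5 F 2 := ((e : Cfsg.PSU 5 F4 2 →* Cfsg.PSU 5 F 2).comp toPSU :)
  have hf : Function.Injective f := e.injective.comp toPSU_injective
  have hcard : Nat.card f.range = 1024 := by
    rw [← M0.card]
    exact Nat.card_congr (MonoidHom.ofInjective hf).symm.toEquiv
  have hfin : Finite (Cfsg.PSU 5 F 2) := Nat.finite_of_card_ne_zero (by rw [card_PSU hF]; norm_num)
  have hfac : (Nat.card (Cfsg.PSU 5 F 2)).factorization 2 = 10 := by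
    rw [card_PSU hF]
    rw [show (13685760 : ℕ) = 2 ^ 10 * 13365 by norm_num, Nat.factorization_mul (by norm_num)
      (by norm_num), Finsupp.add_apply, Nat.Prime.factorization_pow Nat.prime_two,
      Finsupp.single_eq_same, Nat.factorization_eq_zero_of_not_dvd (by norm_num)]
  let Q : Sylow 2 (Cfsg.PSU 5 F 2) := Sylow.ofCard f.range (by rw [hcard, hfac]; norm_num)
  have e2 : (Q : Subgroup (Cfsg.PSU 5 F 2)) = f.range := rfl
  exact ⟨(MonoidHom.ofInjective hf).trans ((MulEquiv.subgroupCongr e2.symm).trans (Q.equiv P))⟩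

end Cfsg.Agent.SylowU5.Iso
end

private theorem dce_e104a8572b72 : _root_.True := by
  try have : _root_.True := by simp only [_root_.Cfsg.Agent.SylowU5.Model.fE.eq_1]
  try have : _root_.True := by simp only [_root_.Cfsg.Agent.SylowU5.Model.cmat.eq_1]
  try have : _root_.True := by simp only [_root_.Cfsg.Agent.SylowU5.Model.mx.eq_1]
  try have : _root_.True := by simp only [_root_.Cfsg.Agent.SylowU5.Model.countB.eq_1]
  try have : _root_.True := by simp only [_root_.Cfsg.Agent.SylowU5.Model.bf.eq_1]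
  exact _root_.True.intro
end

-- part: SylowU5/Elem
section
set_option linter.all false
open scoped Cfsg.Agent.FastGrp

/-! Elementary consequences of the structure `U5T`. -/

set_option autoImplicit false

namespace Cfsg.Agent.SylowU5.Elem

open Cfsg.Agent.SylowU5.Basic

variable {G : Type*} [Group G] {T : Subgroup G} (h : U5T T)

include h

theorem E_le_T : h.E ≤ T := h.E_le.trans h.V_le

theorem d_mem_T (i : Fin 5) : h.d i ∈ T := E_le_T h (h.d_mem i)

theorem E_comm {x y : G} (hx : x ∈ h.E) (hy : y ∈ h.E) : x * y = y * x :=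
  (h.mem_V_iff x (E_le_T h hx)).mp (h.E_le hx) y hy

theorem V_comm {v x : G} (hv : v ∈ h.V) (hx : x ∈ h.E) : v * x = x * v :=
  (h.mem_V_iff v (h.V_le hv)).mp hv x hx

theorem d_sq (i : Fin 5) : h.d i * h.d i = 1 := h.E_sq _ (h.d_mem i)

theorem d_inv (i : Fin 5) : (h.d i)⁻¹ = h.d i := inv_eq_of_mul_eq_one_left (d_sq h i)

theorem d_comm (i j : Fin 5) : h.d i * h.d j = h.d j * h.d i := E_comm h (h.d_mem i) (h.d_mem j)

theorem d_order (i : Fin 5) : orderOf (h.d i) = 2 :=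
  orderOf_eq_prime (by rw [sq, d_sq h i]) (h.d_ne_one i)

theorem dd_mem (i j : Fin 5) : h.d i * h.d j ∈ h.E := h.E.mul_mem (h.d_mem i) (h.d_mem j)

theorem dd_order {i j : Fin 5} (hij : i ≠ j) : orderOf (h.d i * h.d j) = 2 :=
  orderOf_eq_prime (by rw [sq, h.E_sq _ (dd_mem h i j)]) (h.dd_ne_one i j hij)

/-- `z * d 1 = d 2 * d 3 * d 4` etc. -/
theorem prod_rest : h.d 1 * h.d 2 * h.d 3 * h.d 4 = h.d 0 := by
  have h1 := h.d_prod
  have h2 : h.d 0 * (h.d 1 * h.d 2 * h.d 3 * h.d 4) = 1 := by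
    rw [← h1]; group
  calc h.d 1 * h.d 2 * h.d 3 * h.d 4 = h.d 0 * (h.d 0 * (h.d 1 * h.d 2 * h.d 3 * h.d 4)) := by
        rw [← mul_assoc (h.d 0) (h.d 0), d_sq h 0, one_mul]
    _ = h.d 0 := by rw [h2, mul_one]

/-- `d 1 * d 2 * z = d 3 * d 4` -/
theorem t_mul_z : h.d 1 * h.d 2 * h.d 0 = h.d 3 * h.d 4 := by
  have h1 := prod_rest h
  rw [← h1]
  have h2 : h.d 1 * h.d 2 * (h.d 1 * h.d 2) = 1 := h.E_sq _ (dd_mem h 1 2)
  calc h.d 1 * h.d 2 * (h.d 1 * h.d 2 * h.d 3 * h.d 4)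
      = (h.d 1 * h.d 2 * (h.d 1 * h.d 2)) * (h.d 3 * h.d 4) := by group
    _ = h.d 3 * h.d 4 := by rw [h2, one_mul]

theorem mem_E_inter_Q {x : G} (hx : x ∈ h.E) (hxQ : x ∈ h.Q) :
    x = 1 ∨ x = h.d 0 ∨ ∃ i j, i ≠ 0 ∧ j ≠ 0 ∧ i ≠ j ∧ x = h.d i * h.d j := by
  rcases h.E_cases x hx with h1 | ⟨i, hi⟩ | ⟨i, j, hij, hx1⟩
  · exact Or.inl h1
  · right; left
    by_cases hi0 : i = 0
    · rw [hi, hi0]
    · exact absurd (hi ▸ hxQ) (h.d_not_mem_Q i hi0)
  · right; right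
    have hi0 : i ≠ 0 := by
      rintro rfl
      have hj0 : j ≠ 0 := fun hj => hij hj.symm
      apply h.d_not_mem_Q j hj0
      have : h.d j = (h.d 0)⁻¹ * x := by rw [hx1]; group
      rw [this]
      exact h.Q.mul_mem (h.Q.inv_mem h.z_mem_Q) hxQ
    have hj0 : j ≠ 0 := by
      rintro rfl
      apply h.d_not_mem_Q i hi0
      have : h.d i = x * (h.d 0)⁻¹ := by rw [hx1]; group
      rw [this]
      exact h.Q.mul_mem hxQ (h.Q.inv_mem h.z_mem_Q)
    exact ⟨i, j, hi0, hj0, hij, hx1⟩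

/-- `E` is normal in `T` -/
theorem conj_mem_E {g x : G} (hg : g ∈ T) (hx : x ∈ h.E) : g * x * g⁻¹ ∈ h.E := by
  rcases h.E_cases x hx with h1 | ⟨i, hi⟩ | ⟨i, j, hij, hx1⟩
  · rw [h1, mul_one, mul_inv_cancel]; exact h.E.one_mem
  · obtain ⟨j, hj⟩ := h.conj_d g hg i
    rw [hi, hj]; exact h.d_mem j
  · obtain ⟨k, hk⟩ := h.conj_d g hg i
    obtain ⟨l, hl⟩ := h.conj_d g hg j
    have : g * x * g⁻¹ = (g * h.d i * g⁻¹) * (g * h.d j * g⁻¹) := by rw [hx1]; group
    rw [this, hk, hl]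
    exact dd_mem h k l

theorem E_eq_closure : h.E = Subgroup.closure (Set.range h.d) := by
  apply le_antisymm
  · intro x hx
    rcases h.E_cases x hx with h1 | ⟨i, hi⟩ | ⟨i, j, hij, hx1⟩
    · rw [h1]; exact Subgroup.one_mem _
    · rw [hi]; exact Subgroup.subset_closure ⟨i, rfl⟩
    · rw [hx1]
      exact Subgroup.mul_mem _ (Subgroup.subset_closure ⟨i, rfl⟩) (Subgroup.subset_closure ⟨j, rfl⟩)
  · rw [Subgroup.closure_le]
    rintro _ ⟨i, rfl⟩
    exact h.d_mem i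

theorem isPGroup_T : IsPGroup 2 T := IsPGroup.of_card (n := 10) (by rw [h.card_T]; norm_num)

/-- elements of `E` outside `Q` are congruent modulo `Q` -/
theorem E_mul_mem_Q {x y : G} (hx : x ∈ h.E) (hxQ : x ∉ h.Q) (hy : y ∈ h.E) (hyQ : y ∉ h.Q) :
    x * y ∈ h.Q := by
  -- every element of `E` outside `Q` is `d i` or `d 0 * d i` with `i ≠ 0`
  have key : ∀ w ∈ h.E, w ∉ h.Q → ∃ i, i ≠ 0 ∧ (w = h.d i ∨ w = h.d 0 * h.d i) := by
    intro w hw hwQ
    rcases h.E_cases w hw with h1 | ⟨i, hi⟩ | ⟨i, j, hij, hx1⟩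
    · exact absurd (h1 ▸ h.Q.one_mem) hwQ
    · refine ⟨i, ?_, Or.inl hi⟩
      rintro rfl
      exact hwQ (hi ▸ h.z_mem_Q)
    · by_cases hi0 : i = 0
      · subst hi0
        exact ⟨j, fun hj => hij hj.symm, Or.inr hx1⟩
      · by_cases hj0 : j = 0
        · subst hj0
          exact ⟨i, hi0, Or.inr (by rw [hx1, d_comm h])⟩
        · exact absurd (hx1 ▸ h.dd_mem_Q i j hi0 hj0) hwQ
  obtain ⟨i, hi, hi'⟩ := key x hx hxQ
  obtain ⟨j, hj, hj'⟩ := key y hy hyQ
  have hz := h.z_mem_Q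
  have hd := h.dd_mem_Q i j hi hj
  rcases hi' with rfl | rfl <;> rcases hj' with rfl | rfl
  · exact hd
  · have : h.d i * (h.d 0 * h.d j) = h.d 0 * (h.d i * h.d j) := by
      rw [← mul_assoc, d_comm h i 0, mul_assoc]
    rw [this]; exact h.Q.mul_mem hz hd
  · rw [mul_assoc]; exact h.Q.mul_mem hz hd
  · have : h.d 0 * h.d i * (h.d 0 * h.d j) = h.d i * h.d j := by
      calc h.d 0 * h.d i * (h.d 0 * h.d j) = h.d 0 * (h.d i * h.d 0) * h.d j := by group
        _ = h.d 0 * (h.d 0 * h.d i) * h.d j := by rw [d_comm h i 0]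
        _ = (h.d 0 * h.d 0) * (h.d i * h.d j) := by group
        _ = h.d i * h.d j := by rw [d_sq h 0, one_mul]
    rw [this]; exact hd

end Cfsg.Agent.SylowU5.Elem
end
end
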